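import Cfsg.Agent.Pass.NT
import Cfsg.Agent.Mod.CoprimeLift
import Cfsg.Agent.S4485
import Cfsg.Agent.S4704

/-! Class numbers of coprime linear groups that are transitive on non-zero vectors. -/

set_option autoImplicit false

namespace Cfsg.Pass

open Polynomial Module

universe u v

section Classes

variable {H : Type u} [Group H]

theorem card_le_mul_image [DecidableRel (IsConj (α := H))] [DecidableEq (ConjClasses H)]
    (S : Finset H) {n : ℕ}
    (h : ∀ x : H, (S.filter fun y => IsConj x y).card ≤ n) :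
    S.card ≤ n * (S.image ConjClasses.mk).card := by
  refine Finset.card_le_mul_card_image S n fun c _ => ?_
  obtain ⟨x, rfl⟩ := ConjClasses.mk_surjective c
  refine le_trans (Finset.card_le_card fun y hy => ?_) (h x)
  rw [Finset.mem_filter] at hy ⊢
  exact ⟨hy.1, (ConjClasses.mk_eq_mk_iff_isConj.1 hy.2).symm⟩

theorem card_le_card_classes [Finite H] (T : Finset (ConjClasses H)) :
    T.card ≤ Nat.card (ConjClasses H) := by
  have := Fintype.ofFinite (ConjClasses H)
  rw [Nat.card_eq_fintype_card]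
  exact T.card_le_univ

theorem card_le_mul_classes [DecidableRel (IsConj (α := H))] [Finite H] (S : Finset H) {n : ℕ}
    (h : ∀ x : H, (S.filter fun y => IsConj x y).card ≤ n) :
    S.card ≤ n * Nat.card (ConjClasses H) := by
  classical
  exact (card_le_mul_image S h).trans (Nat.mul_le_mul_left _ (card_le_card_classes _))

theorem card_le_two_of_classes [Finite H] (h : Nat.card (ConjClasses H) ≤ 2) :
    Nat.card H ≤ 2 := by
  classical
  have := Fintype.ofFinite H
  have := Fintype.ofFinite (ConjClasses H)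
  by_contra h2
  obtain ⟨x, hx⟩ : ∃ x : H, x ≠ 1 := by
    have : Nontrivial H := Finite.one_lt_card_iff_nontrivial.1 (by omega)
    exact exists_ne 1
  have h3 : (Finset.univ.filter fun y : H => IsConj x y) = Finset.univ.erase 1 := by
    ext y
    simp only [Finset.mem_filter, Finset.mem_univ, true_and, Finset.mem_erase, and_true]
    refine ⟨fun h h1 => hx (by rw [h1] at h; exact isConj_one_left.1 h), fun hy => ?_⟩
    by_contra hxy
    have h4 := card_le_card_classes {ConjClasses.mk (1 : H), ConjClasses.mk x, ConjClasses.mk y}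
    rw [Finset.card_eq_three.2 ⟨_, _, _, ?_, ?_, ?_, rfl⟩] at h4
    · omega
    · exact fun h => hx (isConj_one_right.1 (ConjClasses.mk_eq_mk_iff_isConj.1 h))
    · exact fun h => hy (isConj_one_right.1 (ConjClasses.mk_eq_mk_iff_isConj.1 h))
    · exact fun h => hxy (ConjClasses.mk_eq_mk_iff_isConj.1 h)
  have h4 := card_filter_isConj x
  rw [h3, Finset.card_erase_of_mem (Finset.mem_univ _), Finset.card_univ,
    ← Nat.card_eq_fintype_card] at h4
  have h5 := (Subgroup.centralizer ({x} : Set H)).index_dvd_card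
  rw [← h4] at h5
  have h6 : Nat.card H - 1 ∣ 1 := by
    have := (Nat.dvd_sub_iff_right (m := Nat.card H - 1) (by omega) h5).2 dvd_rfl
    rwa [show Nat.card H - (Nat.card H - 1) = 1 by omega] at this
  have := Nat.le_of_dvd one_pos h6
  omega

theorem card_le_one_of_classes [Finite H] (h : Nat.card (ConjClasses H) ≤ 1) :
    Nat.card H ≤ 1 := by
  classical
  by_contra h2
  have : Nontrivial H := Finite.one_lt_card_iff_nontrivial.1 (by omega)
  obtain ⟨x, hx⟩ := exists_ne (1 : H)
  have h4 := card_le_card_classes {ConjClasses.mk (1 : H), ConjClasses.mk x}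
  rw [Finset.card_pair fun h => hx (isConj_one_right.1 (ConjClasses.mk_eq_mk_iff_isConj.1 h))]
    at h4
  omega

end Classes

section Roots

variable {F : Type*} [Field F] {W : Type v} [AddCommGroup W] [Module F W] [FiniteDimensional F W]
  {H : Type u} [Group H] (ρ : Representation F H W)

theorem charpoly_eq_of_isConj {x y : H} (h : IsConj x y) : (ρ y).charpoly = (ρ x).charpoly := by
  obtain ⟨c, rfl⟩ := isConj_iff.1 h
  let b := Module.Free.chooseBasis F W
  rw [← LinearMap.charpoly_toMatrix _ b, ← LinearMap.charpoly_toMatrix _ b, map_mul ρ,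
    LinearMap.toMatrix_mul, Matrix.charpoly_mul_comm, ← LinearMap.toMatrix_mul, ← map_mul]
  congr 3
  group

/-- conjugate elements are roots of one polynomial -/
theorem card_filter_isConj_le [DecidableRel (IsConj (α := H))] {K : Type*} [CommRing K]
    [IsDomain K] [Algebra F K] (S : Finset H)
    (φ : H → K) (hφ : Set.InjOn φ S)
    (h : ∀ y ∈ S, ∀ f : F[X], aeval (ρ y) f = 0 → aeval (φ y) f = 0) (x : H) :
    (S.filter fun y => IsConj x y).card ≤ finrank F W := by
  classical
  have hm := (ρ x).charpoly_monic.map (algebraMap F K)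
  have h1 := card_roots' ((ρ x).charpoly.map (algebraMap F K))
  rw [(ρ x).charpoly_monic.natDegree_map, LinearMap.charpoly_natDegree] at h1
  refine le_trans ?_ ((Multiset.toFinset_card_le _).trans h1)
  refine Finset.card_le_card_of_injOn φ (fun y hy => ?_) (hφ.mono fun y hy => ?_)
  · rw [Finset.mem_coe, Finset.mem_filter] at hy
    rw [Finset.mem_coe, Multiset.mem_toFinset, mem_roots hm.ne_zero, IsRoot.def, eval_map_algebraMap,
      ← charpoly_eq_of_isConj ρ hy.2]
    exact h y hy.1 _ (LinearMap.aeval_self_charpoly _)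
  · exact (Finset.mem_filter.1 hy).1

theorem card_filter_isConj_le' [DecidableRel (IsConj (α := H))] {K : Type*} [Ring K]
    (hK : IsField K) [Algebra F K] (S : Finset H)
    (φ : H → K) (hφ : Set.InjOn φ S)
    (h : ∀ y ∈ S, ∀ f : F[X], aeval (ρ y) f = 0 → aeval (φ y) f = 0) (x : H) :
    (S.filter fun y => IsConj x y).card ≤ finrank F W := by
  let _ : CommRing K := { (inferInstance : Ring K) with mul_comm := hK.mul_comm }
  have := hK.isDomain
  exact card_filter_isConj_le ρ S φ hφ h x

/-- an element of prime order `r` has at least `r / n` classes of powers -/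
theorem prime_le_mul_classes [Finite H] (hρ : Function.Injective ρ) {x : H} {r : ℕ} (hr : r.Prime)
    (hx : orderOf x = r) (hF : (r : F) ≠ 0) : r ≤ finrank F W * Nat.card (ConjClasses H) := by
  classical
  let K := AlgebraicClosure F
  have : Fact r.Prime := ⟨hr⟩
  have hi : IsIntegral F (ρ x) := LinearMap.isIntegral _
  obtain ⟨l, hl1, hl2⟩ : ∃ l : K, aeval l (minpoly F (ρ x)) = 0 ∧ aeval l (cyclotomic r F) = 0 := by
    by_contra hcon
    have h1 : IsCoprime (minpoly F (ρ x)) (cyclotomic r F) :=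
      (isCoprime_iff_aeval_ne_zero_of_isAlgClosed F K _ _).2 fun a => by
        by_contra h
        push Not at h
        exact hcon ⟨a, h⟩
    have h2 : minpoly F (ρ x) ∣ cyclotomic r F * (X - 1) := by
      rw [cyclotomic_prime_mul_X_sub_one]
      refine minpoly.dvd F _ ?_
      rw [map_sub, map_pow, aeval_X, map_one, ← map_pow, ← hx, pow_orderOf_eq_one, map_one,
        sub_self]
    obtain ⟨g, hg⟩ := h1.dvd_of_dvd_mul_left h2
    have h3 := congrArg (aeval (ρ x)) hg
    rw [map_mul, minpoly.aeval, zero_mul, map_sub, aeval_X, map_one, sub_eq_zero,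
      ← map_one ρ] at h3
    rw [hρ h3, orderOf_one] at hx
    exact hr.ne_one hx.symm
  have : NeZero (r : K) := ⟨fun h => hF ((algebraMap F K).injective (by rwa [map_natCast, map_zero]))⟩
  have hl : IsPrimitiveRoot l r := by
    rw [← isRoot_cyclotomic_iff, IsRoot.def, ← map_cyclotomic r (algebraMap F K),
      eval_map_algebraMap, hl2]
  let e : H → ℕ := fun y => if h : ∃ j, j < r ∧ x ^ j = y then h.choose else 0
  have he : ∀ y ∈ (Finset.range r).image fun j => x ^ j, e y < r ∧ x ^ e y = y := by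
    intro y hy
    obtain ⟨j, hj, rfl⟩ := Finset.mem_image.1 hy
    have h : ∃ i, i < r ∧ x ^ i = x ^ j := ⟨j, Finset.mem_range.1 hj, rfl⟩
    simp only [e, dif_pos h]
    exact h.choose_spec
  have h1 := card_le_mul_classes _ (card_filter_isConj_le ρ
    ((Finset.range r).image fun j => x ^ j) (fun y => l ^ e y) (fun y hy z hz h => by
      rw [← (he y hy).2, ← (he z hz).2, hl.pow_inj (he y hy).1 (he z hz).1 h]) fun y hy f hf => by
      obtain ⟨g, hg⟩ := minpoly.dvd F (ρ x) (p := f.comp (X ^ e y)) (by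
        rw [aeval_comp, map_pow, aeval_X, ← map_pow, (he y hy).2, hf])
      have h3 := congrArg (aeval l) hg
      rwa [map_mul, hl1, zero_mul, aeval_comp, map_pow, aeval_X] at h3)
  rwa [Finset.card_image_of_injOn, Finset.card_range] at h1
  intro i hi j hj h
  exact pow_injOn_Iio_orderOf (by simpa [hx] using hi) (by simpa [hx] using hj) h

theorem isField_centralizer [Finite W] [Nontrivial W] {z : Module.End F W}
    (hz : ∀ U : Submodule F W, (∀ w ∈ U, z w ∈ U) → U = ⊥ ∨ U = ⊤) :
    IsField (Subalgebra.centralizer F ({z} : Set (Module.End F W))) := by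
  have : Finite (Module.End F W) := Finite.of_injective _ DFunLike.coe_injective
  have : NoZeroDivisors (Subalgebra.centralizer F ({z} : Set (Module.End F W))) :=
    ⟨fun {a b} h => by
      rcases hz (LinearMap.ker a.1) (fun w hw => by
        have h1 := (Subalgebra.mem_centralizer_iff _).1 a.2 _ rfl
        rw [LinearMap.mem_ker] at hw ⊢
        rw [← Module.End.mul_apply, ← h1, Module.End.mul_apply, hw, map_zero]) with h1 | h1
      · refine Or.inr (Subtype.ext (LinearMap.ext fun w => ?_))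
        have h2 : a.1 (b.1 w) = 0 := LinearMap.congr_fun (congrArg Subtype.val h) w
        exact LinearMap.ker_eq_bot'.1 h1 _ h2
      · exact Or.inl (Subtype.ext (LinearMap.ker_eq_top.1 h1))⟩
  have := NoZeroDivisors.to_isDomain (Subalgebra.centralizer F ({z} : Set (Module.End F W)))
  exact Finite.isDomain_to_isField _

open Classical in
/-- the centralizer of an irreducible element -/
theorem centralizer_of_irreducible [Finite W] [Fintype H] [Nontrivial W] (hρ : Function.Injective ρ)
    {z : H} (hz : ∀ U : Submodule F W, (∀ w ∈ U, ρ z w ∈ U) → U = ⊥ ∨ U = ⊤) :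
    (∀ a b : H, Commute z a → Commute z b → Commute a b) ∧
      ∀ x : H, ((Finset.univ.filter fun y => Commute z y).filter fun y => IsConj x y).card ≤
        finrank F W := by
  have hf := isField_centralizer hz
  have hD : ∀ a : H, Commute z a → ρ a ∈ Subalgebra.centralizer F ({ρ z} : Set (Module.End F W)) :=
    fun a ha => by
      rw [Subalgebra.mem_centralizer_iff]
      rintro _ rfl
      rw [← map_mul, ← map_mul, ha.eq]
  generalize Subalgebra.centralizer F ({ρ z} : Set (Module.End F W)) = D at hf hD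
  refine ⟨fun a b ha hb => hρ ?_, ?_⟩
  · rw [map_mul, map_mul]
    exact congrArg Subtype.val (hf.mul_comm ⟨_, hD a ha⟩ ⟨_, hD b hb⟩)
  let φ : H → D := fun y => if h : Commute z y then ⟨_, hD y h⟩ else 0
  have hφ : ∀ y, Commute z y → (φ y).1 = ρ y := fun y hy => by simp only [φ, dif_pos hy]
  intro x
  refine card_filter_isConj_le' ρ hf _ φ (fun a ha b hb h => hρ ?_) (fun y hy f hf => ?_) x
  · rw [Finset.mem_coe, Finset.mem_filter] at ha hb
    rw [← hφ a ha.2, ← hφ b hb.2, h]
  · rw [Finset.mem_filter] at hy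
    apply Subtype.ext
    rw [aeval_subalgebra_coe, hφ y hy.2, hf]
    rfl

end Roots

section Trans

variable {p : ℕ} [hp : Fact p.Prime] {W : Type v} [AddCommGroup W] [Module (ZMod p) W] [Finite W]
  {H : Type u} [Group H] [Finite H]

/-- a faithful coprime action that is transitive on non-zero vectors -/
structure Tr (ρ : Representation (ZMod p) H W) : Prop where
  inj : Function.Injective ρ
  cop : ¬ p ∣ Nat.card H
  tr : ∀ v w : W, v ≠ 0 → w ≠ 0 → ∃ h, ρ h v = w
  nt : Nontrivial W

theorem card_eq_pow (W : Type v) [AddCommGroup W] [Module (ZMod p) W] [Finite W] :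
    Nat.card W = p ^ finrank (ZMod p) W := by
  rw [Module.natCard_eq_pow_finrank (K := ZMod p), Nat.card_zmod]

/-- the stabilizer of a vector -/
def stab (ρ : Representation (ZMod p) H W) (v : W) : Subgroup H where
  carrier := {h | ρ h v = v}
  one_mem' := by simp
  mul_mem' := fun {a b} ha hb => by
    rw [Set.mem_setOf_eq] at *
    rw [map_mul, Module.End.mul_apply, hb, ha]
  inv_mem' := fun {a} ha => by
    rw [Set.mem_setOf_eq] at *
    rw [← ha, ← Module.End.mul_apply, ← map_mul, inv_mul_cancel, map_one, ha, Module.End.one_apply]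

variable {ρ : Representation (ZMod p) H W}

theorem apply_ne_zero (h : H) {v : W} (hv : v ≠ 0) : ρ h v ≠ 0 := fun h0 => hv (by
  have := congrArg (ρ h⁻¹) h0
  rwa [← Module.End.mul_apply, ← map_mul, inv_mul_cancel, map_one, map_zero] at this)

theorem Tr.index_stab (T : Tr ρ) {v : W} (hv : v ≠ 0) :
    (stab ρ v).index = p ^ finrank (ZMod p) W - 1 := by
  let _ : MulAction H W := MulAction.compHom W ρ
  have h1 := MulAction.index_stabilizer H v
  have h2 : MulAction.orbit H v = {0}ᶜ := by
    ext w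
    exact ⟨fun ⟨h, hh⟩ => hh ▸ apply_ne_zero h hv, fun hw => T.tr v w hv hw⟩
  rw [h2, Set.ncard_compl, Set.ncard_singleton, card_eq_pow (p := p)] at h1
  exact h1

theorem Tr.dvd_card (T : Tr ρ) : p ^ finrank (ZMod p) W - 1 ∣ Nat.card H := by
  have := T.nt
  obtain ⟨v, hv⟩ := exists_ne (0 : W)
  rw [← T.index_stab hv]
  exact Subgroup.index_dvd_card _

theorem Tr.eq_bot_of_normal (T : Tr ρ) {K : Subgroup H} [hK : K.Normal] {v : W} (hv : v ≠ 0)
    (h : ∀ k ∈ K, ρ k v = v) : K = ⊥ := by
  rw [eq_bot_iff]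
  intro k hk
  refine T.inj (LinearMap.ext fun w => ?_)
  by_cases hw : w = 0
  · rw [hw, map_zero, map_zero]
  obtain ⟨g, rfl⟩ := T.tr v w hv hw
  rw [map_one, Module.End.one_apply, ← Module.End.mul_apply, ← map_mul,
    show k * g = g * (g⁻¹ * k * g⁻¹⁻¹) by group, map_mul, Module.End.mul_apply,
    h _ (hK.conj_mem k hk g⁻¹)]

theorem fixDim_eq_of_le_charKer {G : Type u} [Group G] [Finite G] {χ : G → ℂ}
    (h : IsCharacter G χ) {K : Subgroup G} (hK : K ≤ charKer χ) : fixDim K χ = charDegree χ := by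
  have := Fintype.ofFinite K
  have h1 := h.card_mul_fixDim K
  rw [Finset.sum_congr rfl fun u _ => apply_eq_one_of_mem_charKer (hK u.2), Finset.sum_const,
    Finset.card_univ, nsmul_eq_mul, ← Nat.card_eq_fintype_card, h.one_eq_charDegree] at h1
  exact_mod_cast mul_left_cancel₀ (Nat.cast_ne_zero.2 Nat.card_pos.ne') h1

theorem Tr.exists_lift (T : Tr ρ) : ∃ ζ : IrrCharacter H, (∀ g, ζ.1 g = ζ.1 1 → g = 1) ∧
    charDegree ζ.1 ≤ finrank (ZMod p) W := by
  have := Fintype.ofFinite H
  have := T.nt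
  obtain ⟨χ, hχ, h1, -⟩ := exists_brauer_lift_rep ρ (MonoidHom.id H) T.cop
  have h2 : charDegree χ = finrank (ZMod p) W := by
    have h3 := h1 ⊥
    have h4 : Representation.invariants
        (ρ.comp ((MonoidHom.id H).comp (⊥ : Subgroup H).subtype)) = ⊤ := eq_top_iff.2 fun v _ =>
      (Representation.mem_invariants _ _).2 fun g => by rw [Subsingleton.elim g 1, map_one]; rfl
    rw [fixDim_eq_of_le_charKer hχ bot_le, h4,
      Nat.card_congr Submodule.topEquiv.toEquiv, card_eq_pow (p := p)] at h3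
    exact (Nat.pow_right_injective hp.out.two_le h3).symm
  obtain ⟨ζ, hζ⟩ := hχ.exists_irr_constituent (fun h0 => by
    have h3 := hχ.one_eq_charDegree
    rw [h2, h0, Pi.zero_apply, eq_comm, Nat.cast_eq_zero] at h3
    exact finrank_pos.ne' h3)
  refine ⟨ζ, ζ.isCharacter.charKer_eq_bot_iff.1 ?_, h2 ▸ hχ.charDegree_le_of_constituent ζ hζ⟩
  have h3 : fixDim (charKer ζ.1) χ ≠ 0 := fun h0 => by
    have h4 := hχ.fixDim_eq_zero_of_constituent h0 hζ
    rw [fixDim_eq_of_le_charKer ζ.isCharacter le_rfl] at h4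
    exact ζ.charDegree_pos.ne' h4
  have h4 := h1 (charKer ζ.1)
  have : Nontrivial (Representation.invariants
      (ρ.comp ((MonoidHom.id H).comp (charKer ζ.1).subtype))) :=
    Finite.one_lt_card_iff_nontrivial.1 (h4 ▸ Nat.one_lt_pow h3 hp.out.one_lt)
  obtain ⟨v, hv⟩ := exists_ne (0 : Representation.invariants
      (ρ.comp ((MonoidHom.id H).comp (charKer ζ.1).subtype)))
  exact T.eq_bot_of_normal (v := v.1) (fun h => hv (Subtype.ext h)) fun k hk => v.2 ⟨k, hk⟩

theorem card_modEq_fixed {U : Type v} [AddCommGroup U] [Module (ZMod p) U] [Finite U]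
    (g : Module.End (ZMod p) U) {s : ℕ} (hs : s.Prime) (hg : g ^ s = 1) :
    p ^ finrank (ZMod p) U ≡ p ^ finrank (ZMod p) (LinearMap.ker (g - 1)) [MOD s] := by
  classical
  have := Fintype.ofFinite U
  have := Fact.mk hs
  have h1 := Equiv.Perm.card_fixedPoints_modEq (f := (g : U → U)) (p := s) (n := 1) (by
    funext u
    rw [pow_one]
    have h2 : ∀ k : ℕ, ((show Function.End U from (g : U → U)) ^ k) u = (g ^ k) u := fun k => by
      induction k with
      | zero => rfl
      | succ k ih => rw [pow_succ', pow_succ', Module.End.mul_apply, ← ih]; rfl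
    exact (h2 s).trans (by rw [hg]; rfl))
  rw [← Nat.card_eq_fintype_card, ← Nat.card_eq_fintype_card] at h1
  rw [← card_eq_pow, ← card_eq_pow]
  exact h1.trans (by
    rw [Nat.card_congr (Equiv.subtypeEquivRight (q := fun u => u ∈ LinearMap.ker (g - 1))
      fun u => by rw [LinearMap.mem_ker, LinearMap.sub_apply, sub_eq_zero]; rfl)])

theorem irreducible_of_primitive (hρ : Function.Injective ρ) {s : ℕ} (hs : s.Prime)
    (h1 : s ∣ p ^ finrank (ZMod p) W - 1)
    (h2 : ∀ i, 0 < i → i < finrank (ZMod p) W → ¬ s ∣ p ^ i - 1) {z : H} (hz : orderOf z = s)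
    (U : Submodule (ZMod p) W) (hU : ∀ w ∈ U, ρ z w ∈ U) : U = ⊥ ∨ U = ⊤ := by
  have key : ∀ U : Submodule (ZMod p) W, p ^ finrank (ZMod p) U ≡ 1 [MOD s] → U = ⊥ ∨ U = ⊤ := by
    intro U h
    rw [← Submodule.finrank_eq_zero]
    refine (Nat.eq_zero_or_pos _).imp id fun h0 => Submodule.eq_top_of_finrank_eq ?_
    refine le_antisymm U.finrank_le (not_lt.1 fun h3 => h2 _ h0 h3 ?_)
    exact (Nat.modEq_iff_dvd' (Nat.one_le_pow _ _ hp.out.pos)).1 h.symm
  have hzs : ρ z ^ s = 1 := by rw [← map_pow, ← hz, pow_orderOf_eq_one, map_one]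
  have h3 : LinearMap.ker (ρ z - 1) = ⊥ := by
    refine (key _ ((card_modEq_fixed (ρ z) hs hzs).symm.trans
      ((Nat.modEq_iff_dvd' (Nat.one_le_pow _ _ hp.out.pos)).2 h1).symm)).resolve_right fun h => ?_
    rw [LinearMap.ker_eq_top, sub_eq_zero, ← map_one ρ] at h
    rw [hρ h, orderOf_one] at hz
    exact hs.ne_one hz.symm
  have h4 := card_modEq_fixed ((ρ z).restrict hU) hs (by
    rw [Module.End.pow_restrict _ hU]
    ext u
    rw [LinearMap.restrict_coe_apply, hzs]
    rfl)
  have h5 : LinearMap.ker ((ρ z).restrict hU - 1) = ⊥ := by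
    rw [eq_bot_iff]
    intro u hu
    have h6 : (u : W) ∈ LinearMap.ker (ρ z - 1) := congrArg Subtype.val (LinearMap.mem_ker.1 hu)
    rw [h3] at h6
    exact Subtype.ext h6
  rw [h5, finrank_bot, pow_zero] at h4
  exact key U h4

theorem sq_lt_five_pow {n : ℕ} (hn : 2 ≤ n) : n ^ 2 < 5 ^ (n - 1) := by
  induction n, hn using Nat.le_induction with
  | base => norm_num
  | succ n hn ih =>
    obtain ⟨m, rfl⟩ : ∃ m, n = m + 1 := ⟨n - 1, by omega⟩
    rw [Nat.add_sub_cancel] at ih ⊢
    rw [pow_succ 5 m]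
    nlinarith

theorem le_of_pow_sub_one_le {q n k : ℕ} (hq : 5 ≤ q) (hn : 2 ≤ n) (h : q ^ n - 1 ≤ n * (n * k)) :
    q ≤ k := by
  by_contra hk
  have h1 := (sq_lt_five_pow hn).trans_le (Nat.pow_le_pow_left hq (n - 1))
  obtain ⟨m, rfl⟩ : ∃ m, n = m + 1 := ⟨n - 1, by omega⟩
  rw [Nat.add_sub_cancel] at h1
  rw [pow_succ] at h
  have h2 : (m + 1) * ((m + 1) * k) ≤ (m + 1) ^ 2 * (q - 1) := by
    rw [← mul_assoc, ← sq]
    exact Nat.mul_le_mul_left _ (by omega)
  have h3 : (m + 1) ^ 2 * (q - 1) ≤ q ^ m * (q - 1) := Nat.mul_le_mul_right _ h1.le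
  obtain ⟨r, rfl⟩ : ∃ r, q = r + 1 := ⟨q - 1, by omega⟩
  rw [Nat.add_sub_cancel] at h2 h3
  rw [mul_add, mul_one] at h
  have : 2 ≤ (r + 1) ^ m := by nlinarith
  omega

theorem Tr.small_primitive (T : Tr ρ) (hp5 : 5 ≤ p) (hn : 3 ≤ finrank (ZMod p) W)
    (hk : ¬ p ≤ Nat.card (ConjClasses H)) {s : ℕ} (hs : s.Prime)
    (h1 : s ∣ p ^ finrank (ZMod p) W - 1)
    (h2 : ∀ i, 0 < i → i < finrank (ZMod p) W → ¬ s ∣ p ^ i - 1) :
    s ≤ 2 * finrank (ZMod p) W + 1 ∧ ¬ s ^ 2 ∣ p ^ finrank (ZMod p) W - 1 := by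
  classical
  have := Fintype.ofFinite H
  have := T.nt
  have := Fact.mk hs
  obtain ⟨R⟩ : Nonempty (Sylow s H) := inferInstance
  have hsH := h1.trans T.dvd_card
  have hc := fun {z : H} (hz : orderOf z = s) => centralizer_of_irreducible ρ T.inj
    (irreducible_of_primitive T.inj hs h1 h2 hz)
  have hpow : ∀ x ∈ (R : Subgroup H), x ≠ 1 → ∃ k, orderOf (x ^ k) = s := fun x hx hx1 => by
    obtain ⟨k, hk⟩ := (IsPGroup.iff_orderOf.1 R.isPGroup') ⟨x, hx⟩
    rw [← Subgroup.orderOf_coe] at hk
    have h3 : s ∣ orderOf x := by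
      rw [show orderOf x = s ^ k from hk]
      exact dvd_pow_self _ fun h => hx1 (orderOf_eq_one_iff.1 (by rw [h] at hk; exact hk))
    exact ⟨_, orderOf_pow_orderOf_div (orderOf_pos x).ne' h3⟩
  have hR : (R : Subgroup H) ≠ ⊥ := R.ne_bot_of_dvd_card hsH
  obtain ⟨z, hzR, hz, hzc⟩ : ∃ z ∈ (R : Subgroup H), orderOf z = s ∧
      ∀ x ∈ (R : Subgroup H), Commute z x := by
    have : Nontrivial R := (Subgroup.nontrivial_iff_ne_bot _).2 hR
    have := R.isPGroup'.center_nontrivial
    obtain ⟨⟨y, hy⟩, hy1⟩ := exists_ne (1 : Subgroup.center R)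
    obtain ⟨k, hk⟩ := hpow y y.2 fun h => hy1 (Subtype.ext (Subtype.ext h))
    exact ⟨_, pow_mem y.2 k, hk, fun x hx => Commute.pow_left
      (congrArg Subtype.val (Subgroup.mem_center_iff.1 hy ⟨x, hx⟩)).symm k⟩
  have hcomm : ∀ x ∈ (R : Subgroup H), ∀ y ∈ (R : Subgroup H), Commute x y :=
    fun x hx y hy => (hc hz).1 x y (hzc x hx) (hzc y hy)
  have hnn : ¬ (R : Subgroup H).Normal := by
    intro hN
    have h3 := card_le_mul_classes _ (hc hz).2
    have h4 := (hc hz).2 z
    rw [Finset.filter_filter, Finset.filter_congr (q := fun y => IsConj z y) fun y _ =>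
      ⟨And.right, fun h => ⟨hzc y (by
        obtain ⟨c, rfl⟩ := isConj_iff.1 h
        exact hN.conj_mem z hzR c), h⟩⟩] at h4
    have h5 : (Subgroup.centralizer ({z} : Set H)).index ≤ finrank (ZMod p) W := by
      rw [← card_filter_isConj]
      convert h4
    have h6 : (Finset.univ.filter fun y => Commute z y).card =
        Nat.card (Subgroup.centralizer ({z} : Set H)) := by
      rw [Nat.card_eq_fintype_card, Fintype.card_subtype]
      congr 1
      ext y
      simp only [Finset.mem_filter, Finset.mem_univ, true_and,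
        Subgroup.mem_centralizer_singleton_iff]
      exact ⟨fun h => h.eq.symm, fun h => h.symm⟩
    refine hk (le_of_pow_sub_one_le hp5 (by omega) ((Nat.le_of_dvd Nat.card_pos T.dvd_card).trans ?_))
    rw [← (Subgroup.centralizer ({z} : Set H)).index_mul_card, ← h6]
    exact Nat.mul_le_mul h5 (by convert h3)
  obtain ⟨ζ, hζ, hd⟩ := T.exists_lift
  have hsn : finrank (ZMod p) W + 1 ≤ s := by
    by_contra h3
    refine h2 (s - 1) (by have := hs.two_le; omega) (by omega) ?_
    have h4 : ¬ s ∣ p := fun h => T.cop ((Nat.prime_dvd_prime_iff_eq hs hp.out).1 h ▸ hsH)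
    have h5 := Nat.ModEq.pow_totient ((Nat.Prime.coprime_iff_not_dvd hs).2 h4).symm
    rw [Nat.totient_prime hs] at h5
    exact (Nat.modEq_iff_dvd' (Nat.one_le_pow _ _ hp.out.pos)).1 h5.symm
  have hcard : Nat.card R = s := by
    obtain ⟨a, ha⟩ := R.isPGroup'.exists_card_eq
    have h3 : ¬ charDegree ζ.1 ^ 2 + 1 < Nat.card R := fun h => hnn
      (Agent.S4485.aux s hs H R (fun x hx hx1 => by
        obtain ⟨k, hk⟩ := hpow x hx hx1
        refine le_antisymm (fun g hg y hy => ?_)
          (Subgroup.centralizer_le (Set.singleton_subset_iff.2 hx))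
        exact (hc hk).1 y g ((hcomm x hx y hy).pow_left k)
          (Commute.pow_left (Subgroup.mem_centralizer_singleton_iff.1 hg).symm k))
        ζ.1 ζ.isCharacter hζ h)
    rcases a with _ | _ | a
    · exact absurd (Subgroup.card_eq_one.1 ha) hR
    · simpa using ha
    · exfalso
      have h4 : s ^ 2 ≤ s ^ (a + 1 + 1) := Nat.pow_le_pow_right hs.pos (by omega)
      have h5 := Nat.pow_le_pow_left hd 2
      have h6 := Nat.pow_le_pow_left hsn 2
      nlinarith
  refine ⟨?_, fun h => ?_⟩
  · by_cases h7 : 7 < s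
    · rcases Agent.S4704.result s h7 R hcard hnn ζ.1 ζ.2 hζ _ rfl with ⟨-, h, -⟩ | h | ⟨h, -⟩
      · omega
      · omega
      · have h3 : Real.sqrt ((s : ℝ) + 5 / 4) ≤ (s : ℝ) / 2 + 2 := by
          refine Real.sqrt_le_iff.2 ⟨by positivity, ?_⟩
          nlinarith [Nat.cast_nonneg (α := ℝ) s]
        have h4 : (s : ℝ) ≤ 2 * charDegree ζ.1 + 1 := by linarith
        have h5 : s ≤ 2 * charDegree ζ.1 + 1 := by exact_mod_cast h4
        omega
    · omega
  · have h3 := (R.pow_dvd_card_of_pow_dvd_card (h.trans T.dvd_card))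
    rw [hcard] at h3
    have := Nat.le_of_dvd hs.pos h3
    nlinarith [hs.two_le]

theorem Tr.le_classes_of_three (T : Tr ρ) (hp5 : 5 ≤ p) (hn : 3 ≤ finrank (ZMod p) W) :
    p ≤ Nat.card (ConjClasses H) := by
  by_contra hk
  obtain ⟨h6, h⟩ := eq_six_of_small_primitive hp5 hn fun s => T.small_primitive hp5 hn hk
  have key : ∀ r : ℕ, r.Prime → r ∣ p ^ 6 - 1 → r ≤ 6 * (p - 1) := fun r hr h1 => by
    have := Fact.mk hr
    have h2 := h1.trans (h6 ▸ T.dvd_card)
    obtain ⟨x, hx⟩ := exists_prime_orderOf_dvd_card' r h2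
    have h3 := prime_le_mul_classes ρ T.inj hr hx fun h => T.cop (by
      rwa [(Nat.prime_dvd_prime_iff_eq hp.out hr).1 ((ZMod.natCast_eq_zero_iff _ _).1 h)])
    rw [h6] at h3
    omega
  rcases h with rfl | rfl | rfl
  · exact absurd (key 31 (by norm_num) (by norm_num)) (by norm_num)
  · exact absurd hp.out (by norm_num)
  · exact absurd (key 307 (by norm_num) (by norm_num)) (by norm_num)

end Trans

end Cfsg.Pass
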