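import Mathlib

/-! Arithmetic for transitive linear groups: few small primitive prime divisors. -/

set_option autoImplicit false

namespace Cfsg.Pass

open Polynomial

theorem le_two_mul_totient_sq (n : ℕ) :
    n ≤ 2 * n.totient ^ 2 ∧ (Odd n → n ≤ n.totient ^ 2) := by
  induction n using Nat.recOnPosPrimePosCoprime with
  | zero => simp
  | one => simp
  | prime_pow p k hp hk =>
    obtain ⟨k, rfl⟩ : ∃ j, k = j + 1 := ⟨k - 1, by omega⟩
    rw [Nat.totient_prime_pow_succ hp]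
    obtain ⟨q, rfl⟩ : ∃ q, p = q + 1 := ⟨p - 1, by have := hp.pos; omega⟩
    have h1 : 1 ≤ (q + 1) ^ k := Nat.one_le_pow _ _ (by omega)
    have h2 : 1 ≤ q := by have := hp.two_le; omega
    rw [Nat.add_sub_cancel, pow_succ, mul_pow]
    generalize (q + 1) ^ k = a at *
    refine ⟨?_, fun ho => ?_⟩
    · calc a * (q + 1) ≤ a ^ 2 * (2 * q ^ 2) := Nat.mul_le_mul (by nlinarith) (by nlinarith)
        _ = _ := by ring
    · have h3 : q ≠ 1 := by
        rintro rfl
        exact (Nat.not_even_iff_odd.2 ho) (by simp)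
      have h4 : 2 ≤ q := by omega
      exact Nat.mul_le_mul (by nlinarith) (by nlinarith)
  | coprime a b ha hb hab iha ihb =>
    rw [Nat.totient_mul hab, mul_pow]
    refine ⟨?_, fun ho => ?_⟩
    · rcases Nat.even_or_odd a with h | h
      · have hb' : Odd b := by
          by_contra h'
          have := Nat.eq_one_of_dvd_coprimes hab h.two_dvd (Nat.not_odd_iff_even.1 h').two_dvd
          omega
        calc a * b ≤ (2 * a.totient ^ 2) * b.totient ^ 2 := Nat.mul_le_mul iha.1 (ihb.2 hb')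
          _ = _ := by ring
      · calc a * b ≤ a.totient ^ 2 * (2 * b.totient ^ 2) := Nat.mul_le_mul (iha.2 h) ihb.1
          _ = _ := by ring
    · exact Nat.mul_le_mul (iha.2 (Nat.odd_mul.1 ho).1) (ihb.2 (Nat.odd_mul.1 ho).2)

theorem poly_le_four_pow {t : ℕ} (ht : 14 ≤ t) :
    2 * t ^ 2 * (2 * t ^ 2 + 1) * (4 * t ^ 2 + 1) ≤ 4 ^ t := by
  induction t, ht using Nat.le_induction with
  | base => norm_num
  | succ t ht ih =>
    have h1 : 2 * (t + 1) ^ 2 * 2 ≤ 3 * (2 * t ^ 2) := by nlinarith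
    have h2 : (2 * (t + 1) ^ 2 + 1) * 2 ≤ 3 * (2 * t ^ 2 + 1) := by nlinarith
    have h3 : (4 * (t + 1) ^ 2 + 1) * 2 ≤ 3 * (4 * t ^ 2 + 1) := by nlinarith
    have h4 := Nat.mul_le_mul (Nat.mul_le_mul h1 h2) h3
    rw [pow_succ 4 t]
    generalize 2 * (t + 1) ^ 2 + 1 = b' at *
    generalize 2 * (t + 1) ^ 2 = a' at *
    generalize 4 * (t + 1) ^ 2 + 1 = c' at *
    generalize 2 * t ^ 2 + 1 = b at *
    generalize 2 * t ^ 2 = a at *
    generalize 4 * t ^ 2 + 1 = c at *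
    have e1 : a' * 2 * (b' * 2) * (c' * 2) = 8 * (a' * b' * c') := by ring
    have e2 : 3 * a * (3 * b) * (3 * c) = 27 * (a * b * c) := by ring
    omega

theorem small_totient_check :
    ∀ n < 339, 19 ≤ n → n * (n + 1) * (2 * n + 1) ≤ 4 ^ n.totient := by
  decide +kernel

theorem cubic_le_four_pow {n : ℕ} (hn : 19 ≤ n) : n * (n + 1) * (2 * n + 1) ≤ 4 ^ n.totient := by
  have h1 := (le_two_mul_totient_sq n).1
  by_cases ht : 14 ≤ n.totient
  · refine le_trans ?_ (poly_le_four_pow ht)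
    exact Nat.mul_le_mul (Nat.mul_le_mul h1 (by omega)) (by omega)
  · refine small_totient_check n ?_ hn
    have : n.totient ^ 2 ≤ 13 ^ 2 := Nat.pow_le_pow_left (by omega) 2
    omega

theorem small_check_a : ∀ n < 19, 3 ≤ n → n * (n + 1) * (2 * n + 1) ≤ 24 ^ n.totient := by
  decide +kernel

set_option synthInstance.maxSize 1024 in
theorem small_check_b : ∀ n < 19, 3 ≤ n → ∀ q < 25, 5 ≤ q →
    Nat.gcd (n * (n + 1) * (2 * n + 1)) ((q ^ n - 1) / (q ^ (n / n.minFac) - 1)) ≤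
      (q - 1) ^ n.totient ∨ (n = 6 ∧ (q = 5 ∨ q = 10 ∨ q = 17)) := by
  decide +kernel

theorem cyclotomic_mul_dvd {q n d : ℕ} (hq : 2 ≤ q) (hd : d ∣ n) (hdn : d < n) :
    (q ^ d - 1) * ((cyclotomic n ℤ).eval (q : ℤ)).natAbs ∣ q ^ n - 1 := by
  have h6 := map_dvd (evalRingHom (q : ℤ)) (X_pow_sub_one_mul_cyclotomic_dvd_X_pow_sub_one_of_dvd
    ℤ (d := d) (n := n) (Nat.mem_properDivisors.2 ⟨hd, hdn⟩))
  simp only [coe_evalRingHom, eval_mul, eval_sub, eval_pow, eval_X, eval_one] at h6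
  have h7 := Int.natAbs_dvd_natAbs.2 h6
  have e : ∀ i : ℕ, ((q : ℤ) ^ i - 1).natAbs = q ^ i - 1 := fun i => by
    have : 1 ≤ q ^ i := Nat.one_le_pow _ _ (by omega)
    rw [← Nat.cast_pow, ← Nat.cast_one (R := ℤ), ← Nat.cast_sub this, Int.natAbs_natCast]
  rwa [Int.natAbs_mul, e, e] at h7

/-- a prime divisor of `Φ_n(q)` is primitive, or divides `n` and divides `Φ_n(q)` only once -/
theorem prime_dvd_cyclotomic {q n : ℕ} (hq : 2 ≤ q) (hn : 3 ≤ n) {r : ℕ} (hr : r.Prime)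
    (hd : r ∣ ((cyclotomic n ℤ).eval (q : ℤ)).natAbs) :
    (r ∣ q ^ n - 1 ∧ (∀ i, 0 < i → i < n → ¬ r ∣ q ^ i - 1) ∧ n ∣ r - 1) ∨
      (r ∣ n ∧ ¬ r ^ 2 ∣ ((cyclotomic n ℤ).eval (q : ℤ)).natAbs) := by
  set F : ℤ := (cyclotomic n ℤ).eval (q : ℤ) with hF
  have hcast : ∀ (i : ℕ), r ∣ q ^ i - 1 ↔ (q : ZMod r) ^ i = 1 := fun i => by
    rw [← ZMod.natCast_eq_zero_iff, Nat.cast_sub (Nat.one_le_pow _ _ (by omega)), sub_eq_zero,
      Nat.cast_pow, Nat.cast_one]
  have : Fact r.Prime := ⟨hr⟩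
  obtain ⟨k, m, hm, hkm⟩ := Nat.exists_eq_pow_mul_and_not_dvd (by omega : n ≠ 0) r hr.ne_one
  have : NeZero (m : ZMod r) := ⟨fun h => hm ((ZMod.natCast_eq_zero_iff _ _).1 h)⟩
  have h2 : IsPrimitiveRoot (q : ZMod r) m := by
    rw [← isRoot_cyclotomic_prime_pow_mul_iff_of_charP (p := r) (k := k), ← hkm, IsRoot.def,
      ← map_cyclotomic_int, ← Int.cast_natCast, eval_intCast_map, Int.cast_id, eq_intCast,
      ZMod.intCast_zmod_eq_zero_iff_dvd]
    exact Int.natCast_dvd.2 hd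
  have hm0 : 0 < m := Nat.pos_of_ne_zero (by rintro rfl; exact hm (dvd_zero r))
  have h3 : (q : ZMod r) ≠ 0 := h2.ne_zero hm0.ne'
  obtain rfl | ⟨k, rfl⟩ := k.eq_zero_or_eq_succ_pred.imp id fun h => (⟨_, h⟩ : ∃ j, k = j + 1)
  · rw [pow_zero, one_mul] at hkm
    subst hkm
    refine Or.inl ⟨(hcast _).2 h2.pow_eq_one, fun i hi hin h => ?_,
      h2.dvd_of_pow_eq_one _ (ZMod.pow_card_sub_one_eq_one h3)⟩
    exact absurd (Nat.le_of_dvd hi (h2.dvd_of_pow_eq_one i ((hcast _).1 h))) (by omega)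
  have hmr : m < r := by
    have := Nat.le_of_dvd (by have := hr.two_le; omega)
      (h2.dvd_of_pow_eq_one _ (ZMod.pow_card_sub_one_eq_one h3))
    have := hr.two_le
    omega
  have hm1 := h2.pow_eq_one
  have ht : n = r ^ k * m * r := by rw [hkm]; ring
  refine Or.inr ⟨⟨_, by rw [ht, mul_comm]⟩, fun h => ?_⟩
  have ht0 : 0 < r ^ k * m := Nat.mul_pos (pow_pos hr.pos _) hm0
  have h5 : F ∣ ∑ i ∈ Finset.range r, ((q : ℤ) ^ (r ^ k * m)) ^ i := by
    have h6 := map_dvd (evalRingHom (q : ℤ)) (X_pow_sub_one_mul_cyclotomic_dvd_X_pow_sub_one_of_dvd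
      ℤ (d := r ^ k * m) (n := n) (Nat.mem_properDivisors.2 ⟨⟨r, ht⟩, by
        rw [ht]; exact lt_mul_of_one_lt_right ht0 hr.one_lt⟩))
    simp only [coe_evalRingHom, eval_mul, eval_sub, eval_pow, eval_X, eval_one, ← hF] at h6
    rw [ht, pow_mul (q : ℤ) _ r, ← mul_geom_sum _ r] at h6
    refine (mul_dvd_mul_iff_left (sub_ne_zero.2 ?_)).1 h6
    exact (one_lt_pow₀ (by exact_mod_cast (by omega : 1 < q)) ht0.ne').ne'
  have h7 : (r : ℤ) ^ 2 ∣ _ := (Int.natCast_dvd.2 h).trans h5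
  rcases hr.eq_two_or_odd' with rfl | hodd
  · obtain rfl : m = 1 := by omega
    obtain ⟨k, rfl⟩ : ∃ j, k = j + 1 := ⟨k - 1, by
      rcases k with _ | k
      · omega
      · rfl⟩
    rw [Finset.sum_range_succ, Finset.sum_range_one, mul_one, pow_zero, pow_one, pow_succ 2 k,
      pow_mul] at h7
    generalize (q : ℤ) ^ 2 ^ k = y at h7
    push_cast at h7
    obtain ⟨z, rfl | rfl⟩ := y.even_or_odd'
    · rw [show 1 + (2 * z) ^ 2 = 4 * z ^ 2 + 1 by ring] at h7
      omega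
    · rw [show 1 + (2 * z + 1) ^ 2 = 4 * (z ^ 2 + z) + 2 by ring] at h7
      omega
  · obtain ⟨b, hb⟩ : (r : ℤ) ∣ (q : ℤ) ^ (r ^ k * m) - 1 := by
      rw [← ZMod.intCast_zmod_eq_zero_iff_dvd]
      push_cast
      rw [mul_comm, pow_mul, hm1, one_pow, sub_self]
    have h8 := odd_sq_dvd_geom_sum₂_sub (1 : ℤ) b hodd
    simp only [one_pow, mul_one] at h8
    rw [← hb, add_sub_cancel] at h8
    have h9 := Int.le_of_dvd (by exact_mod_cast hr.pos) ((dvd_sub_right h7).1 h8)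
    have : (1 : ℤ) < r := by exact_mod_cast hr.one_lt
    nlinarith

/-- if all primitive prime divisors of `q ^ n - 1` are at most `2 n + 1` and simple, then
`(n, q)` is one of three pairs -/
theorem eq_six_of_small_primitive {q n : ℕ} (hq : 5 ≤ q) (hn : 3 ≤ n)
    (h : ∀ s : ℕ, s.Prime → s ∣ q ^ n - 1 → (∀ i, 0 < i → i < n → ¬ s ∣ q ^ i - 1) →
      s ≤ 2 * n + 1 ∧ ¬ s ^ 2 ∣ q ^ n - 1) : n = 6 ∧ (q = 5 ∨ q = 10 ∨ q = 17) := by
  have h2 := sub_one_pow_totient_lt_natAbs_cyclotomic_eval (n := n) (q := q) (by omega) (by omega)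
  have hmf := Nat.minFac_prime (by omega : n ≠ 1)
  have h3 := cyclotomic_mul_dvd (q := q) (by omega) (Nat.div_dvd_of_dvd n.minFac_dvd)
    (Nat.div_lt_self (by omega) hmf.one_lt)
  have h4 := fun r => prime_dvd_cyclotomic (q := q) (n := n) (by omega) hn (r := r)
  generalize ((cyclotomic n ℤ).eval (q : ℤ)).natAbs = F at h2 h3 h4
  have h5 : F ∣ q ^ n - 1 := (Dvd.intro_left _ rfl).trans h3
  have hF0 : F ≠ 0 := by omega
  have h6 : F ∣ n * (n + 1) * (2 * n + 1) := by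
    have hsq : Squarefree F := by
      rw [Nat.squarefree_iff_prime_squarefree]
      intro r hr hd
      rcases h4 r hr ((Dvd.intro _ rfl).trans hd) with ⟨a, b, -⟩ | ⟨-, b⟩
      · exact (h r hr a b).2 (by rw [sq]; exact hd.trans h5)
      · exact b (by rwa [sq])
    rw [← Nat.prod_primeFactors_of_squarefree hsq]
    refine Finset.prod_primes_dvd _ (fun r hr => (Nat.prime_of_mem_primeFactors hr).prime)
      fun r hr => ?_
    have hrp := Nat.prime_of_mem_primeFactors hr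
    rcases h4 r hrp (Nat.dvd_of_mem_primeFactors hr) with ⟨a, b, c, hc⟩ | ⟨a, -⟩
    · have h7 := (h r hrp a b).1
      have h8 := hrp.two_le
      have h9 : c = 1 ∨ c = 2 := by
        rcases c with _ | _ | _ | c
        · omega
        · simp
        · simp
        · exfalso; nlinarith [Nat.sub_add_cancel (by omega : 1 ≤ r)]
      rcases h9 with rfl | rfl
      · rw [show r = n + 1 by omega]
        exact Dvd.dvd.mul_right (Dvd.intro_left _ rfl) _
      · rw [show r = 2 * n + 1 by omega]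
        exact Dvd.intro_left _ rfl
    · exact (a.mul_right _).mul_right _
  have h7 := Nat.le_of_dvd (by positivity) h6
  have hn19 : n < 19 := by
    by_contra h8
    have := cubic_le_four_pow (n := n) (by omega)
    have := Nat.pow_le_pow_left (by omega : 4 ≤ q - 1) n.totient
    omega
  have hq25 : q < 25 := by
    by_contra h8
    have := small_check_a n hn19 hn
    have := Nat.pow_le_pow_left (by omega : 24 ≤ q - 1) n.totient
    omega
  refine (small_check_b n hn19 hn q hq25 hq).resolve_left (not_le.2 (h2.trans_le ?_))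
  refine Nat.le_of_dvd (Nat.gcd_pos_of_pos_left _ (by positivity)) (Nat.dvd_gcd h6 ?_)
  exact Nat.dvd_div_of_mul_dvd h3

end Cfsg.Pass
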