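import Cfsg.Agent.Pass.Two
import Cfsg.Agent.Grp.FpfAut
import Cfsg.Agent.Grp.PSolvable
import Cfsg.Agent.Grp.PPart
import Cfsg.Prelude.Def_Perm

/-! Counting `p`-regular classes. -/

set_option autoImplicit false

namespace Cfsg.Pass

open Module

universe u v

theorem fiber_of_card_le {α : Type u} {β : Type v} [Finite α] {F : α → β}
    (hF : Function.Surjective F) {a b : α} (hab : a ≠ b) (h : F a = F b) :
    Nat.card β + 1 ≤ Nat.card α ∧ (Nat.card α ≤ Nat.card β + 1 →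
      ∀ x y, x ≠ b → y ≠ b → F x = F y → x = y) := by
  have h1 : Function.Surjective fun x : ({b}ᶜ : Set α) => F x := fun c => by
    obtain ⟨x, rfl⟩ := hF c
    by_cases hx : x = b
    · exact ⟨⟨a, hab⟩, hx ▸ h⟩
    · exact ⟨⟨x, hx⟩, rfl⟩
  have h2 : Nat.card ({b}ᶜ : Set α) + 1 = Nat.card α := by
    have := Set.ncard_add_ncard_compl ({b} : Set α)
    rw [Set.ncard_singleton, add_comm] at this
    exact this
  have h3 := Nat.card_le_card_of_surjective _ h1
  refine ⟨by omega, fun h4 x y hx hy hxy => ?_⟩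
  have := Finite.of_surjective _ hF
  exact congrArg Subtype.val
    ((h1.bijective_of_nat_card_le (by omega)).1 (a₁ := ⟨x, hx⟩) (a₂ := ⟨y, hy⟩) hxy)

variable {G : Type u} [Group G] [Finite G]

/-- the `p`-regular classes -/
abbrev RC (p : ℕ) (G : Type u) [Group G] :=
  {c : ConjClasses G // ∃ g : G, ConjClasses.mk g = c ∧ ¬ p ∣ orderOf g}

theorem rc_surjective {p : ℕ} [Fact p.Prime] {Q : Type v} [Group Q] [Finite Q] (f : G →* Q)
    (hf : Function.Surjective f) (hQ : ¬ p ∣ Nat.card Q) :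
    Function.Surjective fun c : RC p G => ConjClasses.map f c.1 := fun c => by
  obtain ⟨y, rfl⟩ := ConjClasses.mk_surjective c
  obtain ⟨x, hx, rfl⟩ := exists_pRegular_lift (p := p) f hf
    (y := y) fun h => hQ (h.trans (orderOf_dvd_natCard y))
  exact ⟨⟨_, x, rfl, hx⟩, rfl⟩

theorem card_classes_congr {Q : Type v} [Group Q] (e : G ≃* Q) :
    Nat.card (ConjClasses G) = Nat.card (ConjClasses Q) := by
  have := Finite.of_surjective _ e.surjective
  exact le_antisymm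
    (Nat.card_le_card_of_surjective _ (ConjClasses.map_surjective (f := e.symm.toMonoidHom)
      e.symm.surjective))
    (Nat.card_le_card_of_surjective _ (ConjClasses.map_surjective (f := e.toMonoidHom)
      e.surjective))

theorem card_rc_le {p : ℕ} [Fact p.Prime] (hs : IsPSolvable p G) {H : Subgroup G}
    (hH : ¬ p ∣ Nat.card H) (hi : ∃ k, H.index = p ^ k) :
    Nat.card (RC p G) ≤ Nat.card (ConjClasses H) := by
  have h1 : ∀ c : ConjClasses H, ∃ g : G, ConjClasses.mk g = ConjClasses.map H.subtype c ∧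
      ¬ p ∣ orderOf g := fun c => by
    obtain ⟨y, rfl⟩ := ConjClasses.mk_surjective c
    exact ⟨y, rfl, fun h => hH (h.trans (H.orderOf_dvd_natCard y.2))⟩
  refine Nat.card_le_card_of_surjective (fun c => (⟨_, h1 c⟩ : RC p G)) ?_
  rintro ⟨_, g, rfl, hg⟩
  obtain ⟨c, hc⟩ := hs.exists_conj_le_hall_pPrime hH hi (K := Subgroup.zpowers g)
    (by rwa [Nat.card_zpowers])
  refine ⟨ConjClasses.mk ⟨_, mem_conj_smul_iff.1 (hc (Subgroup.mem_zpowers g))⟩, Subtype.ext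
    (ConjClasses.mk_eq_mk_iff_isConj.2 (isConj_iff.2 ⟨c, ?_⟩))⟩
  simp [mul_assoc]

theorem card_centralizer_dvd_of_camina {M : Subgroup G} [M.Normal] {g : G}
    (h : ∀ m ∈ M, IsConj g (g * m)) :
    Nat.card (Subgroup.centralizer ({g} : Set G)) ∣ M.index := by
  have h1 : {x : G | IsConj g x} = QuotientGroup.mk ⁻¹'
      ((QuotientGroup.mk : G → G ⧸ M) '' {x : G | IsConj g x}) := by
    refine le_antisymm (Set.subset_preimage_image _ _) ?_
    rintro x ⟨y, hy, hxy⟩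
    obtain ⟨c, rfl⟩ := isConj_iff.1 hy
    have h2 := h _ (‹M.Normal›.conj_mem _ (QuotientGroup.eq.1 hxy) c⁻¹)
    refine h2.trans (isConj_iff.2 ⟨c, by group⟩)
  have h2 := QuotientGroup.card_preimage_mk M
    ((QuotientGroup.mk : G → G ⧸ M) '' {x : G | IsConj g x})
  rw [← h1] at h2
  have h3 := (card_isConj_eq_index_centralizer g).symm.trans h2
  have h4 := (Subgroup.centralizer ({g} : Set G)).index_mul_card
  rw [h3, ← M.card_mul_index, mul_assoc] at h4
  exact Dvd.intro_left _ (Nat.eq_of_mul_eq_mul_left Nat.card_pos h4)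

theorem exc_false {N M : Subgroup G} [hNn : N.Normal] [hMn : M.Normal] (hNM : N ≤ M) (hN : N ≠ ⊥)
    (h11 : ¬ 11 ∣ Nat.card N) (hi : N.relIndex M = 121) (hQ : M.index = 120)
    {z : G ⧸ M} (hz : orderOf z = 2) (hzc : z ∈ Subgroup.center (G ⧸ M))
    (hfree : ∀ g, g ∉ M → ∀ x ∈ M, Commute g x → x ∈ N)
    (ha : ∀ n ∈ N, ∀ n' ∈ N, n ≠ 1 → n' ≠ 1 → IsConj n n')
    (hb : ∀ g, g ∉ M → ∀ m ∈ M, IsConj g (g * m)) : False := by
  have hord : ∀ {a b : G}, IsConj a b → orderOf b = orderOf a := fun h => by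
    obtain ⟨c, rfl⟩ := isConj_iff.1 h
    exact (MulAut.conj c).orderOf_eq _
  obtain ⟨r, hr, hrN⟩ := Nat.exists_prime_and_dvd (mt Subgroup.card_eq_one.1 hN)
  have := Fact.mk hr
  have h1 : ∀ n ∈ N, n ≠ 1 → orderOf n = r := fun n hn hn1 => by
    obtain ⟨m, hm, hmr⟩ := exists_orderOf_eq_prime_of_dvd_card hrN
    rw [hord (ha m hm n hn (fun h => hr.ne_one (by rw [← hmr, h, orderOf_one])) hn1), hmr]
  have hNp : IsPGroup r N := fun n => ⟨1, Subtype.ext (by
    by_cases h : (n : G) = 1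
    · simp [h]
    · simp [← h1 n n.2 h])⟩
  have h2 : ∀ g, g ∉ M → ¬ r ∣ orderOf g → ∀ x ∈ M, g * x = x * g → x = 1 := by
    intro g hg hrg x hx hc
    by_contra hx1
    refine hrg (h1 x (hfree g hg x hx hc) hx1 ▸ orderOf_dvd_of_pow_eq_one ?_)
    have h3 := pow_orderOf_eq_one (g * x)
    rwa [hord (hb g hg x hx), Commute.mul_pow hc, pow_orderOf_eq_one, one_mul] at h3
  have hM := card_mul_relIndex hNM
  obtain ⟨a, haN⟩ := hNp.exists_card_eq
  have h3 : ∀ s k : ℕ, s.Prime → s ^ k ∣ 120 → s ≠ 11 → s ≠ r → ∃ S : Subgroup G,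
      Nat.card S = s ^ k ∧ ∀ g ∈ S, g ≠ 1 → ∀ x ∈ M, g * x = x * g → x = 1 := by
    intro s k hs hk h11 hsr
    have := Fact.mk hs
    obtain ⟨S, hS⟩ := Sylow.exists_subgroup_card_pow_prime (G := G) s (n := k)
      (hk.trans (hQ ▸ M.index_dvd_card))
    refine ⟨S, hS, fun g hg hg1 => ?_⟩
    obtain ⟨j, hj⟩ := exists_orderOf_eq_pow_of_mem (IsPGroup.of_card hS) hg
    have hj0 : j ≠ 0 := fun h => hg1 (orderOf_eq_one_iff.1 (by rw [hj, h, pow_zero]))
    refine h2 g (fun hgM => ?_) fun h => hsr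
      ((Nat.prime_dvd_prime_iff_eq hr hs).1 (hr.dvd_of_dvd_pow (hj ▸ h))).symm
    have h4 := (dvd_pow_self s hj0).trans (hj ▸ M.orderOf_dvd_natCard hgM)
    rw [← hM, haN, hi, show 121 = 11 ^ 2 by norm_num] at h4
    rcases (Nat.Prime.dvd_mul hs).1 h4 with h | h
    · exact hsr ((Nat.prime_dvd_prime_iff_eq hs hr).1 (hs.dvd_of_dvd_pow h))
    · exact h11 ((Nat.prime_dvd_prime_iff_eq hs (by norm_num)).1 (hs.dvd_of_dvd_pow h))
  have hnil : Group.IsNilpotent M := by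
    obtain ⟨s, hs, h120, hs11, hsr⟩ : ∃ s : ℕ, s.Prime ∧ s ^ 1 ∣ 120 ∧ s ≠ 11 ∧ s ≠ r := by
      by_cases h : r = 2
      · exact ⟨3, by norm_num, by norm_num, by norm_num, by omega⟩
      · exact ⟨2, by norm_num, by norm_num, by norm_num, by omega⟩
    obtain ⟨S, hS, hS'⟩ := h3 s 1 hs h120 hs11 hsr
    have := Fact.mk hs
    obtain ⟨g, hg, hgs⟩ := exists_orderOf_eq_prime_of_dvd_card (H := S) (p := s) (by simp [hS])
    exact isNilpotent_of_fpf_prime hs (a := g) (by rw [Subgroup.normalizer_eq_top]; trivial)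
      (by rw [← hgs, pow_orderOf_eq_one])
      (hS' g hg fun h => hs.ne_one (by rw [← hgs, h, orderOf_one]))
  have hcen : ∀ n ∈ N, ∀ m ∈ M, m * n = n * m := by
    obtain ⟨⟨n, hn⟩, hn1⟩ := Subgroup.ne_bot_iff_exists_ne_one.1
      (inf_center_ne_bot_of_isNilpotent hnil (N := N.subgroupOf M) fun h => hN (by
        rwa [Subgroup.subgroupOf_eq_bot, disjoint_iff, inf_eq_left.2 hNM] at h))
    intro n' hn' m hm
    by_cases h : n' = 1
    · simp [h]
    obtain ⟨c, rfl⟩ := isConj_iff.1 (ha n hn.1 n' hn' (fun h => hn1 (Subtype.ext (Subtype.ext h))) h)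
    have h4 := congrArg Subtype.val (Subgroup.mem_center_iff.1 hn.2 ⟨_, hMn.conj_mem m hm c⁻¹⟩)
    simp only [Subgroup.coe_mul] at h4
    calc m * (c * n * c⁻¹) = c * (c⁻¹ * m * c⁻¹⁻¹ * n) * c⁻¹ := by group
      _ = _ := by rw [h4]; group
  have h4 : Nat.card N - 1 ∣ 120 := by
    obtain ⟨⟨n, hn⟩, hn1⟩ := Subgroup.ne_bot_iff_exists_ne_one.1 hN
    have hn1' : n ≠ 1 := fun h => hn1 (Subtype.ext h)
    have h5 : {x : G | IsConj n x} = (N : Set G) \ {1} := by
      ext x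
      refine ⟨fun h => ⟨?_, fun hx => hn1' (isConj_one_left.1 (hx ▸ h))⟩,
        fun h => ha n hn x h.1 hn1' h.2⟩
      obtain ⟨c, rfl⟩ := isConj_iff.1 h
      exact hNn.conj_mem n hn c
    have h6 : {x : G | IsConj n x}.ncard = _ := card_isConj_eq_index_centralizer n
    rw [h5, Set.ncard_diff_singleton_of_mem N.one_mem] at h6
    rw [← hQ]
    exact (show Nat.card N - 1 = _ from h6) ▸ Subgroup.index_dvd_of_le fun m hm =>
      Subgroup.mem_centralizer_singleton_iff.2 (hcen n hn m hm)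
  have h5 : ∀ s k : ℕ, s.Prime → s ^ k ∣ 120 → s ≠ 11 → s ≠ r → s ^ k ∣ Nat.card N - 1 := by
    intro s k hs hk h11 hsr
    obtain ⟨S, hS, hS'⟩ := h3 s k hs hk h11 hsr
    rw [← hS]
    exact (Nat.modEq_iff_dvd' Nat.card_pos).1 (card_modEq_one_of_fixedPointFree
      (by rw [Subgroup.normalizer_eq_top]; exact le_top)
      fun g hg hg1 n hn => hS' g hg hg1 n (hNM hn)).symm
  have h6 : ∀ y : G ⧸ M, orderOf y = r → ∃ g : G, (g : G ⧸ M) = y ∧
      Nat.card (Subgroup.centralizer ({g} : Set G)) ∣ 120 ∧ ∃ n ∈ N, n ≠ 1 ∧ g * n = n * g := by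
    intro y hy
    obtain ⟨g, hg, rfl⟩ := exists_pElement_lift (p := r) (QuotientGroup.mk' M)
      (QuotientGroup.mk'_surjective M) (y := y) ⟨1, by rw [hy, pow_one]⟩
    refine ⟨g, rfl, hQ ▸ card_centralizer_dvd_of_camina (hb g fun h => hr.ne_one ?_), ?_⟩
    · rw [← hy, QuotientGroup.mk'_apply, (QuotientGroup.eq_one_iff g).2 h, orderOf_one]
    obtain ⟨⟨n, hn⟩, hn1⟩ := Subgroup.ne_bot_iff_exists_ne_one.1
      (inf_centralizer_ne_bot_of_isPGroup (isPGroup_zpowers_iff.2 hg) hNp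
        (by rw [Subgroup.normalizer_eq_top]; exact le_top) hN)
    exact ⟨n, hn.1, fun h => hn1 (Subtype.ext h), hn.2 g (Subgroup.mem_zpowers g)⟩
  have h8 := h5 2 3 (by norm_num) (by norm_num) (by norm_num)
  have h9 := h5 3 1 (by norm_num) (by norm_num) (by norm_num)
  have h10 := h5 5 1 (by norm_num) (by norm_num) (by norm_num)
  have h12 : ∀ d ∈ Nat.divisors 120, (3 ∣ d → 5 ∣ d → 2 ∣ d + 1 → d = 15) ∧
      (8 ∣ d → 5 ∣ d → ¬ 3 ∣ d + 1) ∧ (8 ∣ d → 3 ∣ d → d = 24 ∨ d = 120) := by decide +kernel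
  have h13 := h12 _ (Nat.mem_divisors.2 ⟨h4, by norm_num⟩)
  have h14 : Nat.card N - 1 + 1 = Nat.card N := Nat.sub_add_cancel Nat.card_pos
  rw [h14] at h13
  by_cases hr2 : r = 2
  · subst hr2
    obtain ⟨g, rfl, hg, n, hn, hn1, hgn⟩ := h6 z hz
    have h15 : N ≤ Subgroup.centralizer {g} := fun n' hn' => by
      by_cases h : n' = 1
      · exact h ▸ Subgroup.one_mem _
      obtain ⟨c, rfl⟩ := isConj_iff.1 (ha n hn n' hn' hn1 h)
      have h16 : g⁻¹ * (c⁻¹ * g * c) ∈ M := QuotientGroup.eq.1 (by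
        rw [QuotientGroup.mk_mul, QuotientGroup.mk_mul, Subgroup.mem_center_iff.1 hzc, mul_assoc,
          ← QuotientGroup.mk_mul, inv_mul_cancel, QuotientGroup.mk_one, mul_one])
      rw [Subgroup.mem_centralizer_singleton_iff]
      calc c * n * c⁻¹ * g = c * (n * g * (g⁻¹ * (c⁻¹ * g * c))) * c⁻¹ := by group
        _ = c * (g * ((g⁻¹ * (c⁻¹ * g * c)) * n)) * c⁻¹ := by
          rw [← hgn, hcen n hn _ h16, mul_assoc g]
        _ = _ := by group
    have h16 := (Subgroup.card_dvd_of_le h15).trans hg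
    have h17 := h13.1 (h9 (by norm_num)) (h10 (by norm_num)) hrN
    rw [show Nat.card N = 16 by omega] at h16
    omega
  by_cases hr3 : r = 3
  · subst hr3
    exact h13.2.1 (h8 (by norm_num)) (h10 (by norm_num)) hrN
  rcases h13.2.2 (h8 (Ne.symm hr2)) (h9 (Ne.symm hr3)) with h | h
  · obtain rfl : r = 5 := (Nat.prime_dvd_prime_iff_eq hr (by norm_num)).1
      (hr.dvd_of_dvd_pow (n := 2) (by rwa [show Nat.card N = 5 ^ 2 by omega] at hrN))
    obtain ⟨y, hy⟩ := exists_prime_orderOf_dvd_card' (G := G ⧸ M) 5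
      (by rw [show Nat.card (G ⧸ M) = 120 from hQ]; norm_num)
    obtain ⟨g, rfl, hg, n, hn, hn1, hgn⟩ := h6 y hy
    have h15 := card_inf_mul_relIndex N (Subgroup.centralizer ({g} : Set G))
    have h16 : 5 ∣ Nat.card (N ⊓ Subgroup.centralizer ({g} : Set G) : Subgroup G) :=
      h1 n hn hn1 ▸ Subgroup.orderOf_dvd_natCard _
        ⟨hn, Subgroup.mem_centralizer_singleton_iff.2 hgn.symm⟩
    have h17 : 5 ∣ N.relIndex (Subgroup.centralizer ({g} : Set G)) := by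
      rw [← hy]
      refine orderOf_dvd_of_pow_eq_one ((QuotientGroup.eq_one_iff _).2 (hNM ?_))
      exact N.pow_relIndex_mem (Subgroup.mem_centralizer_singleton_iff.2 rfl)
    have h18 := (h15 ▸ Nat.mul_dvd_mul h16 h17).trans hg
    omega
  · omega

theorem nonempty_affine {p : ℕ} [hp : Fact p.Prime] {V H : Subgroup G} [hVn : V.Normal]
    (hc : V.IsComplement' H) (hV : Nat.card V = p) (hC : Subgroup.centralizer (V : Set G) ≤ V)
    (htr : ∀ x ∈ V, ∀ y ∈ V, x ≠ 1 → y ≠ 1 → IsConj x y) :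
    Nonempty (G ≃* affineGroup (ZMod p)) := by
  let e : Multiplicative (ZMod p) ≃* V := mulEquivOfPrimeCardEq (by simp) hV
  let w : ZMod p → G := fun x => e (Multiplicative.ofAdd x)
  have hwV : ∀ x, w x ∈ V := fun x => (e _).2
  have hwa : ∀ x y, w (x + y) = w x * w y := fun x y => by simp only [w, ofAdd_add, map_mul]; rfl
  have hw0 : w 0 = 1 := by simp [w]
  have hwi : Function.Injective w := fun x y h => e.injective (Subtype.ext h)
  have hws : ∀ v ∈ V, ∃ x, w x = v := fun v hv =>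
    ⟨(e.symm ⟨v, hv⟩).toAdd, by simp [w]⟩
  have hwn : ∀ (n : ℕ) x, w (n * x) = w x ^ n := fun n x => by
    induction n with
    | zero => simp [hw0]
    | succ n ih => rw [Nat.cast_succ, add_mul, one_mul, hwa, ih, pow_succ]
  have hd : ∀ v ∈ V, ∀ v' ∈ V, (v : G ⧸ H) = v' → v = v' := fun v hv v' hv' h =>
    inv_mul_eq_one.1 (Subgroup.mem_bot.1 (hc.disjoint.le_bot
      ⟨V.mul_mem (V.inv_mem hv) hv', QuotientGroup.eq.1 h⟩))
  have hβ : Function.Bijective fun x => (w x : G ⧸ H) := by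
    refine ⟨fun x y h => hwi (hd _ (hwV x) _ (hwV y) h), fun q => ?_⟩
    obtain ⟨g, rfl⟩ := QuotientGroup.mk_surjective q
    obtain ⟨⟨v, h⟩, rfl⟩ := hc.2 g
    obtain ⟨x, hx⟩ := hws v v.2
    exact ⟨x, QuotientGroup.eq.2 (by simp [hx])⟩
  let φ : G →* Equiv.Perm (ZMod p) :=
    (Equiv.ofBijective _ hβ).symm.permCongrHom.toMonoidHom.comp (MulAction.toPermHom G (G ⧸ H))
  have hφ : ∀ g x y, φ g x = y ↔ ((g * w x : G) : G ⧸ H) = w y := fun g x y =>
    Equiv.symm_apply_eq (Equiv.ofBijective _ hβ) (x := ((g * w x : G) : G ⧸ H))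
  have hconj : ∀ g a, g * w 1 * g⁻¹ = w a → ∀ x, g * w x * g⁻¹ = w (a * x) := fun g a h x => by
    obtain ⟨n, rfl⟩ := ZMod.natCast_zmod_surjective x
    rw [mul_comm a, hwn, ← h, conj_pow, ← hwn, mul_one]
  have hform : ∀ (b : ZMod p) (h : H) a, h * w 1 * h.1⁻¹ = w a → ∀ x, φ (w b * h) x = a * x + b :=
    fun b h a ha x => by
      rw [hφ, add_comm, hwa, ← hconj h a ha, eq_comm, QuotientGroup.eq]
      simp [mul_assoc]
  have hw1 : ∀ a, a ≠ 0 → w a ≠ 1 := fun a ha h => ha (hwi (h.trans hw0.symm))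
  refine ⟨MulEquiv.ofBijective (φ.codRestrict _ fun g => ?_) ⟨?_, ?_⟩⟩
  · obtain ⟨⟨v, h⟩, rfl⟩ := hc.2 g
    obtain ⟨b, hb⟩ := hws v v.2
    obtain ⟨a, ha⟩ := hws _ (hVn.conj_mem _ (hwV 1) h)
    refine ⟨Units.mk0 a ?_, b, fun x => ?_⟩
    · rintro rfl
      rw [hw0, eq_comm, mul_inv_eq_one, mul_eq_left] at ha
      exact hw1 1 one_ne_zero ha
    · simp only [← hb]
      exact hform b h a ha.symm x
  · rw [injective_iff_map_eq_one]
    intro g hg
    have h1 : ∀ x, ((g * w x : G) : G ⧸ H) = w x := fun x =>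
      (hφ g x x).1 (DFunLike.congr_fun (congrArg Subtype.val hg) x)
    have h2 : g ∈ H := by simpa [hw0] using QuotientGroup.eq.1 (h1 0).symm
    refine Subgroup.mem_bot.1 (hc.disjoint.le_bot ⟨hC fun v hv => ?_, h2⟩)
    obtain ⟨x, rfl⟩ := hws v hv
    rw [← mul_inv_eq_iff_eq_mul.1 (hd _ (hVn.conj_mem _ hv g) _ hv
      ((QuotientGroup.eq.2 (by simpa [mul_assoc] using h2)).trans (h1 x)))]
  · rintro ⟨σ, a, b, hσ⟩
    obtain ⟨g, hg⟩ := isConj_iff.1 (htr _ (hwV 1) _ (hwV a) (hw1 1 one_ne_zero) (hw1 a a.ne_zero))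
    obtain ⟨⟨v, h⟩, rfl⟩ := hc.2 g
    obtain ⟨c, hc'⟩ := hws v v.2
    refine ⟨w b * h, Subtype.ext (Equiv.ext fun x => (hform b h a ?_ x).trans (hσ x).symm)⟩
    have h1 : w c * w a = w a * w c := by rw [← hwa, add_comm, hwa]
    simp only [← hc'] at hg
    calc h * w 1 * h.1⁻¹ = (w c)⁻¹ * (w c * h * w 1 * (w c * h)⁻¹) * w c := by group
      _ = _ := by rw [hg, mul_assoc, ← h1, inv_mul_cancel_left]

theorem Tr.card_classes_of_one {p : ℕ} [hp : Fact p.Prime] {W : Type v} [AddCommGroup W]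
    [Module (ZMod p) W] [Finite W] {ρ : Representation (ZMod p) G W} (T : Tr ρ)
    (h1 : finrank (ZMod p) W = 1) : Nat.card (ConjClasses G) = p - 1 := by
  have h2 := fun a => (LinearMap.existsUnique_eq_smul_id_of_finrank_eq_one h1 (ρ a)).exists
  let _ : CommGroup G := ⟨fun a b => T.inj (by
    obtain ⟨c, hc⟩ := h2 a
    rw [map_mul, map_mul, hc]
    ext v
    simp)⟩
  rw [← Nat.card_congr ConjClasses.mkEquiv]
  have := T.nt
  obtain ⟨v, hv⟩ := exists_ne (0 : W)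
  have h3 := (stab ρ v).index_mul_card
  rw [T.index_stab hv, T.eq_bot_of_normal (K := stab ρ v) hv fun k hk => hk, h1] at h3
  simpa using h3.symm

theorem main_mul {p : ℕ} [hp : Fact p.Prime] {V : Type v} [CommGroup V] [Finite V] [Nontrivial V]
    (hV : ∀ v : V, v ^ p = 1) (φ : G →* MulAut V) (inj : Function.Injective φ)
    (cop : ¬ p ∣ Nat.card G) (tr : ∀ v w : V, v ≠ 1 → w ≠ 1 → ∃ g, φ g v = w) :
    p ≤ Nat.card (ConjClasses G) ∨ (Nat.card V = p ∧ Nat.card (ConjClasses G) = p - 1) ∨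
      (p = 11 ∧ Nat.card V = 121 ∧ Nonempty (G ≃* Matrix.SpecialLinearGroup (Fin 2) (ZMod 5)) ∧
        ∀ g v, v ≠ 1 → φ g v = v → g = 1) := by
  have _ : Module (ZMod p) (Additive V) := AddCommGroup.zmodModule fun v => hV v.toMul
  let ρ : G →* Module.End (ZMod p) (Additive V) :=
    { toFun := fun g => (MonoidHom.toAdditive (φ g).toMonoidHom).toZModLinearMap p
      map_one' := by rw [map_one]; rfl
      map_mul' := fun a b => by rw [map_mul]; rfl }
  have T : Tr (W := Additive V) ρ := ⟨fun a b h => inj (MulEquiv.ext fun v =>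
    LinearMap.congr_fun h (Additive.ofMul v)), cop, tr, inferInstance⟩
  have hcard : Nat.card V = p ^ finrank (ZMod p) (Additive V) := card_eq_pow (p := p) (Additive V)
  refine T.main.imp id (Or.imp (fun h1 => ⟨by rw [hcard, h1, pow_one], T.card_classes_of_one h1⟩)
    fun ⟨h1, h2, ⟨e⟩⟩ => ⟨h1, by rw [hcard, h2, h1]; rfl, ⟨e⟩, fun g v hv hg => ?_⟩)
  exact T.free (by rw [Nat.card_congr e.toEquiv, card_sl25, h2, h1]; rfl) (v := Additive.ofMul v)
    hv hg

theorem core {p : ℕ} [hp : Fact p.Prime] (hs : IsPSolvable p G) (hO : pPrimeCore p G = ⊥)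
    (hdiv : p ∣ Nat.card G) (hconj : ∀ x y : G, x ≠ 1 → y ≠ 1 → (∃ k : ℕ, orderOf x = p ^ k) →
      (∃ k : ℕ, orderOf y = p ^ k) → IsConj x y) :
    ∃ H : Subgroup G, (pCore p G).IsComplement' H ∧ ¬ p ∣ Nat.card H ∧
      (p ≤ Nat.card (ConjClasses H) ∨
        (Nat.card (ConjClasses H) = p - 1 ∧ Nonempty (G ≃* affineGroup (ZMod p))) ∨
        (p = 11 ∧ Nat.card (pCore p G) = 121 ∧
          Nonempty (H ≃* Matrix.SpecialLinearGroup (Fin 2) (ZMod 5)) ∧
          ∀ g, g ∉ pCore p G → ∀ n ∈ pCore p G, g * n = n * g → n = 1)) := by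
  set V := pCore p G with hVdef
  have hVp : IsPGroup p V := isPGroup_pCore p G
  have : Nontrivial G := Finite.one_lt_card_iff_nontrivial.1
    (hp.out.one_lt.trans_le (Nat.le_of_dvd Nat.card_pos hdiv))
  have hV : V ≠ ⊥ := hs.pCore_ne_bot_or.resolve_right (not_not.2 hO)
  have hC := hs.centralizer_pCore_le hO
  have htr : ∀ x ∈ V, ∀ y ∈ V, x ≠ 1 → y ≠ 1 → IsConj x y := fun x hx y hy hx1 hy1 =>
    hconj x y hx1 hy1 (exists_orderOf_eq_pow_of_mem hVp hx) (exists_orderOf_eq_pow_of_mem hVp hy)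
  obtain ⟨M, hM, hMV⟩ := exists_isMinNormal_le (inferInstance : V.Normal) hV
  have hE := hM.isElementaryAbelian_of_isPGroup (hVp.to_le hMV)
  have hall : ∀ x : G, (∃ k : ℕ, orderOf x = p ^ k) → x ∈ M := fun x hx => by
    by_cases hx1 : x = 1
    · exact hx1 ▸ M.one_mem
    obtain ⟨⟨m, hm⟩, hm1⟩ := Subgroup.ne_bot_iff_exists_ne_one.1 hM.2.1
    obtain ⟨c, rfl⟩ := isConj_iff.1 (hconj m x (fun h => hm1 (Subtype.ext h)) hx1
      (exists_orderOf_eq_pow_of_mem hVp (hMV hm)) hx)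
    exact hM.1.conj_mem m hm c
  obtain rfl : M = V := le_antisymm hMV fun x hx => hall x (exists_orderOf_eq_pow_of_mem hVp hx)
  have hi : ¬ p ∣ V.index := by
    obtain ⟨P⟩ : Nonempty (Sylow p G) := inferInstance
    rw [show V = P from le_antisymm (pCore_le_sylow P) fun x hx =>
      hall x (exists_orderOf_eq_pow_of_mem P.isPGroup' hx)]
    exact P.not_dvd_index
  obtain ⟨H, hc⟩ := Subgroup.exists_right_complement'_of_coprime (N := V) (by
    obtain ⟨k, hk⟩ := hVp.exists_card_eq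
    rw [hk]
    exact Nat.Coprime.pow_left _ ((Nat.Prime.coprime_iff_not_dvd hp.out).2 hi))
  have hH : ¬ p ∣ Nat.card H := by rwa [← hc.symm.index_eq_card]
  refine ⟨H, hc, hH, ?_⟩
  let _ : CommGroup V := ⟨hE.1.is_comm.comm⟩
  have := (Subgroup.nontrivial_iff_ne_bot V).2 hV
  have hcomm : ∀ a ∈ V, ∀ b ∈ V, a * b = b * a := fun a ha b hb =>
    congrArg Subtype.val (hE.1.is_comm.comm ⟨a, ha⟩ ⟨b, hb⟩)
  refine (main_mul (V := V) (fun v => Subtype.ext (hE.2 _ v.2)) (MulAut.conjNormal.comp H.subtype)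
    ((injective_iff_map_eq_one _).2 fun g hg => Subtype.ext (Subgroup.mem_bot.1
      (hc.disjoint.le_bot ⟨hC fun v hv => ?_, g.2⟩))) hH fun v w hv hw => ?_).imp id
    (Or.imp (fun h => ⟨h.2, nonempty_affine hc h.1 hC htr⟩)
      fun ⟨h1, h2, h3, h4⟩ => ⟨h1, h2, h3, fun g hg n hn hgn => ?_⟩)
  · exact (mul_inv_eq_iff_eq_mul.1 (congrArg Subtype.val (DFunLike.congr_fun hg ⟨v, hv⟩))).symm
  · obtain ⟨g, hg⟩ := isConj_iff.1 (htr _ v.2 _ w.2 (fun h => hv (Subtype.ext h))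
      fun h => hw (Subtype.ext h))
    obtain ⟨⟨u, h⟩, rfl⟩ := hc.2 g
    refine ⟨h, Subtype.ext ?_⟩
    calc h.1 * v * h.1⁻¹ = u.1⁻¹ * (u * h * v * (u.1 * h.1)⁻¹) * u := by group
      _ = w := by rw [hg, mul_assoc, ← hcomm u u.2 _ w.2, inv_mul_cancel_left]
  · by_contra hn1
    obtain ⟨⟨u, h⟩, rfl⟩ := hc.2 g
    have h3 := h4 h ⟨n, hn⟩ (fun h => hn1 (congrArg Subtype.val h)) (Subtype.ext (by
      change h.1 * n * h.1⁻¹ = n
      rw [mul_inv_eq_iff_eq_mul, ← mul_right_inj u.1, ← mul_assoc, ← mul_assoc, hcomm u u.2 n hn,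
        mul_assoc n]
      exact hgn))
    exact hg (by simp [h3])

end Cfsg.Pass
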