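import Mathlib

set_option autoImplicit false

namespace Cfsg.Pass

open Matrix

/-- `SL(2, 5)` as quadruples -/
def slEquiv : SpecialLinearGroup (Fin 2) (ZMod 5) ≃
    {x : ZMod 5 × ZMod 5 × ZMod 5 × ZMod 5 // x.1 * x.2.2.2 - x.2.1 * x.2.2.1 = 1} where
  toFun A := ⟨(A 0 0, A 0 1, A 1 0, A 1 1), (det_fin_two A.1).symm.trans A.2⟩
  invFun x := ⟨!![x.1.1, x.1.2.1; x.1.2.2.1, x.1.2.2.2], by rw [det_fin_two_of]; exact x.2⟩
  left_inv A := Subtype.ext (eta_fin_two A.1).symm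
  right_inv x := rfl

theorem card_sl25 : Nat.card (SpecialLinearGroup (Fin 2) (ZMod 5)) = 120 := by
  rw [Nat.card_congr slEquiv, Nat.card_eq_fintype_card]
  decide +kernel

theorem card_classes_sl25 : Nat.card (ConjClasses (SpecialLinearGroup (Fin 2) (ZMod 5))) = 9 := by
  have h1 := card_comm_eq_card_conjClasses_mul_card (SpecialLinearGroup (Fin 2) (ZMod 5))
  have h2 : Nat.card {p : SpecialLinearGroup (Fin 2) (ZMod 5) × SpecialLinearGroup (Fin 2) (ZMod 5)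
      // Commute p.1 p.2} = 1080 := by
    rw [Nat.card_congr ((slEquiv.prodCongr slEquiv).subtypeEquiv (q := fun x =>
      x.1.1.2.1 * x.2.1.2.2.1 = x.2.1.2.1 * x.1.1.2.2.1 ∧
      x.1.1.1 * x.2.1.2.1 + x.1.1.2.1 * x.2.1.2.2.2 =
        x.2.1.1 * x.1.1.2.1 + x.2.1.2.1 * x.1.1.2.2.2 ∧
      x.1.1.2.2.1 * x.2.1.1 + x.1.1.2.2.2 * x.2.1.2.2.1 =
        x.2.1.2.2.1 * x.1.1.1 + x.2.1.2.2.2 * x.1.1.2.2.1) fun ⟨A, B⟩ => ?_),
      Nat.card_eq_fintype_card]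
    · decide +kernel
    · change A * B = B * A ↔ A 0 1 * B 1 0 = B 0 1 * A 1 0 ∧
        A 0 0 * B 0 1 + A 0 1 * B 1 1 = B 0 0 * A 0 1 + B 0 1 * A 1 1 ∧
        A 1 0 * B 0 0 + A 1 1 * B 1 0 = B 1 0 * A 0 0 + B 1 1 * A 1 0
      rw [Matrix.SpecialLinearGroup.ext_iff]
      simp only [Fin.forall_fin_two, Matrix.SpecialLinearGroup.coe_mul, mul_apply, Fin.sum_univ_two]
      constructor
      · rintro ⟨⟨a, b⟩, c, d⟩
        exact ⟨by linear_combination a, b, c⟩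
      · rintro ⟨a, b, c⟩
        exact ⟨⟨by linear_combination a, b⟩, c, by linear_combination -a⟩
  rw [h2, card_sl25] at h1
  omega

end Cfsg.Pass
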