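import Cfsg.Agent.Pass.Lin
import Cfsg.Agent.Pass.SL25
import Cfsg.Agent.Grp.DicksonCA
import Cfsg.Agent.Grp.DoubleCover
import Cfsg.Agent.CT.Burnside

/-! The two-dimensional case. -/

set_option autoImplicit false

namespace Cfsg.Pass

open Module

universe u v

section Dk

variable {K : Type u} [Group K] [Finite K]

/-- the properties of a coprime subgroup of `GL(2, F)` that are used for counting classes -/
structure Dk (K : Type u) [Group K] : Prop where
  ca : ∀ x : K, x ∉ Subgroup.center K → ∀ a b : K, Commute x a → Commute x b → Commute a b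
  two : ∀ x : K, x ∉ Subgroup.center K → ∃ x', ∀ y, IsConj x y → Commute x y → y = x ∨ y = x'

theorem Dk.of_mat {F : Type*} [Field F] (X : K →* Matrix (Fin 2) (Fin 2) F)
    (hX : Function.Injective X) (h2 : (2 : F) ≠ 0) (hK : (Nat.card K : F) ≠ 0) : Dk K := by
  have hns : ∀ x : K, x ∉ Subgroup.center K → ∀ c : F, X x ≠ c • 1 := by
    intro x hx c hc
    apply hx
    rw [Subgroup.mem_center_iff]
    intro g
    apply hX
    simp [hc]
  have hcomm : ∀ a b : K, Commute (X a) (X b) → Commute a b := fun a b h =>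
    hX (by simpa using h.eq)
  refine ⟨fun x hx a b ha hb => hcomm _ _
    (mat2_commute_of_commute (hns x hx) (ha.map X) (hb.map X)), fun x hx => ?_⟩
  have hd := mat2_disc_ne_zero (hns x hx) h2 hK (by rw [← map_pow, pow_card_eq_one', map_one])
  have key : ∀ y, IsConj x y → Commute x y → X y = X x ∨ X y = (X x).trace • 1 - X x := by
    intro y hy hg
    obtain ⟨g, rfl⟩ := isConj_iff.1 hy
    refine mat2_conj_eq (hns x hx) h2 hd (hg.map X) ?_ ?_
    · rw [map_mul, Matrix.trace_mul_comm, ← map_mul]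
      congr 2
      group
    · rw [map_mul, map_mul, Matrix.det_mul, Matrix.det_mul, mul_right_comm, ← Matrix.det_mul,
        ← map_mul]
      simp
  by_cases h : ∃ x', X x' = (X x).trace • 1 - X x
  · obtain ⟨x', h⟩ := h
    exact ⟨x', fun y h1 h3 => (key y h1 h3).imp (fun e => hX e) fun e => hX (e.trans h.symm)⟩
  · exact ⟨x, fun y h1 h3 => (key y h1 h3).imp (fun e => hX e) fun e => (h ⟨y, e⟩).elim⟩

/-- the smallest prime divisor of the order modulo the centre -/
noncomputable def typ (c : ConjClasses K) : ℕ :=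
  (orderOf (QuotientGroup.mk c.out : K ⧸ Subgroup.center K)).minFac

theorem typ_mk (x : K) :
    typ (ConjClasses.mk x) = (orderOf (QuotientGroup.mk x : K ⧸ Subgroup.center K)).minFac := by
  have h : IsConj x (ConjClasses.mk x).out :=
    ConjClasses.mk_eq_mk_iff_isConj.1 (Quotient.out_eq _).symm
  obtain ⟨c, hc⟩ := isConj_iff.1 h
  rw [typ, ← hc]
  congr 1
  exact (MulAut.conj (QuotientGroup.mk c : K ⧸ Subgroup.center K)).orderOf_eq (QuotientGroup.mk x)

/-- the number of classes of a given type -/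
noncomputable def cnt (K : Type u) [Group K] (t : ℕ) : ℕ := {c : ConjClasses K | typ c = t}.ncard

theorem sum_cnt_le : cnt K 1 + cnt K 2 + cnt K 3 + cnt K 5 ≤ Nat.card (ConjClasses K) := by
  have hd : ∀ a b : ℕ, a ≠ b → Disjoint {c : ConjClasses K | typ c = a} {c | typ c = b} :=
    fun a b h => Set.disjoint_left.2 fun c h1 h2 => h (h1.symm.trans h2)
  unfold cnt
  rw [← Set.ncard_union_eq (hd 1 2 (by decide)), ← Set.ncard_union_eq
    (Set.disjoint_union_left.2 ⟨hd 1 3 (by decide), hd 2 3 (by decide)⟩), ← Set.ncard_union_eq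
    (Set.disjoint_union_left.2 ⟨Set.disjoint_union_left.2 ⟨hd 1 5 (by decide), hd 2 5 (by decide)⟩,
      hd 3 5 (by decide)⟩)]
  exact Set.ncard_le_card _

theorem card_center_le_cnt : Nat.card (Subgroup.center K) ≤ cnt K 1 := by
  refine Set.ncard_le_ncard_of_injOn (s := (Subgroup.center K : Set K)) ConjClasses.mk
    (fun x hx => ?_) (fun x hx y hy h => ?_)
  · rw [Set.mem_setOf_eq, typ_mk, (QuotientGroup.eq_one_iff x).2 hx, orderOf_one, Nat.minFac_one]
  · obtain ⟨c, rfl⟩ := isConj_iff.1 (ConjClasses.mk_eq_mk_iff_isConj.1 h)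
    rw [Subgroup.mem_center_iff.1 hx c, mul_inv_cancel_right]

theorem Dk.card_le (h : Dk K) {D : Subgroup K} (hc : ∀ a ∈ D, ∀ b ∈ D, Commute a b)
    (T : Set (ConjClasses K)) (hT : ∀ a ∈ D, a ∉ Subgroup.center K → ConjClasses.mk a ∈ T) :
    Nat.card D ≤ Nat.card (Subgroup.center K) + 2 * T.ncard := by
  classical
  have := Fintype.ofFinite K
  have h1 := card_le_mul_image (Finset.univ.filter fun a => a ∈ D ∧ a ∉ Subgroup.center K) (n := 2)
    fun x => by
      rcases ((Finset.univ.filter fun a => a ∈ D ∧ a ∉ Subgroup.center K).filter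
        fun y => IsConj x y).eq_empty_or_nonempty with h0 | ⟨a, ha⟩
      · rw [h0]; simp
      simp only [Finset.mem_filter, Finset.mem_univ, true_and] at ha
      obtain ⟨a', ha'⟩ := h.two a ha.1.2
      refine (Finset.card_le_card fun y hy => ?_).trans (Finset.card_le_two (a := a) (b := a'))
      simp only [Finset.mem_filter, Finset.mem_univ, true_and] at hy
      simpa using ha' y (ha.2.symm.trans hy.2) (hc a ha.1.1 y hy.1.1)
  have h2 : ((Finset.univ.filter fun a => a ∈ D ∧ a ∉ Subgroup.center K).image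
      ConjClasses.mk).card ≤ T.ncard := by
    rw [← Set.ncard_coe_finset]
    refine Set.ncard_le_ncard fun c hc => ?_
    obtain ⟨a, ha, rfl⟩ := Finset.mem_image.1 hc
    simp only [Finset.mem_filter, Finset.mem_univ, true_and] at ha
    exact hT a ha.1 ha.2
  have h3 : Nat.card D ≤ Nat.card (Subgroup.center K) +
      (Finset.univ.filter fun a => a ∈ D ∧ a ∉ Subgroup.center K).card := by
    rw [Nat.card_eq_fintype_card, Nat.card_eq_fintype_card, Fintype.card_subtype,
      Fintype.card_subtype]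
    refine (Finset.card_le_card fun a ha => ?_).trans (Finset.card_union_le _ _)
    simp only [Finset.mem_filter, Finset.mem_univ, true_and, Finset.mem_union] at ha ⊢
    tauto
  omega

theorem Dk.card_le_cnt (h : Dk K) {r : ℕ} [hr : Fact r.Prime] {D : Subgroup (K ⧸ Subgroup.center K)}
    (hD : IsPGroup r D) (hc : ∀ a b : K, (a : K ⧸ Subgroup.center K) ∈ D →
      (b : K ⧸ Subgroup.center K) ∈ D → Commute a b) :
    Nat.card D * Nat.card (Subgroup.center K) ≤ Nat.card (Subgroup.center K) + 2 * cnt K r := by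
  have h1 := h.card_le (D := D.comap (QuotientGroup.mk' _)) (fun a ha b hb => hc a b ha hb)
    {c | typ c = r} fun a ha haZ => by
      obtain ⟨k, hk⟩ := IsPGroup.iff_orderOf.1 hD ⟨a, ha⟩
      rw [← Subgroup.orderOf_coe] at hk
      rw [Set.mem_setOf_eq, typ_mk, show orderOf (QuotientGroup.mk a : K ⧸ Subgroup.center K) =
        r ^ k from hk, Nat.Prime.pow_minFac hr.out]
      rintro rfl
      exact haZ ((QuotientGroup.eq_one_iff a).1 (orderOf_eq_one_iff.1 hk))
  rwa [card_comap_mk, mul_comm] at h1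

theorem Dk.prime_le_cnt (h : Dk K) {r : ℕ} (hr : r.Prime) (hd : r ∣ (Subgroup.center K).index) :
    r * Nat.card (Subgroup.center K) ≤ Nat.card (Subgroup.center K) + 2 * cnt K r := by
  have := Fact.mk hr
  obtain ⟨x, hx⟩ := exists_prime_orderOf_dvd_card' (G := K ⧸ Subgroup.center K) r hd
  obtain ⟨x, rfl⟩ := QuotientGroup.mk_surjective x
  have h1 : ∀ a : K, (a : K ⧸ Subgroup.center K) ∈ Subgroup.zpowers (x : K ⧸ Subgroup.center K) →
      Commute x a := fun a ⟨k, hk⟩ => by
    have h2 := QuotientGroup.eq.1 (show ((x ^ k : K) : K ⧸ Subgroup.center K) = a from hk)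
    rw [show a = x ^ k * ((x ^ k)⁻¹ * a) by group]
    exact (Commute.zpow_right (Commute.refl x) k).mul_right (Subgroup.mem_center_iff.1 h2 x)
  have h2 := h.card_le_cnt (D := Subgroup.zpowers (x : K ⧸ Subgroup.center K))
    (IsPGroup.of_card (n := 1) (by rw [Nat.card_zpowers, hx, pow_one])) fun a b ha hb =>
      h.ca x (fun h0 => by
        rw [(QuotientGroup.eq_one_iff x).2 h0, orderOf_one] at hx
        exact hr.ne_one hx.symm) a b (h1 a ha) (h1 b hb)
  rwa [Nat.card_zpowers, hx] at h2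

theorem Dk.four_le_cnt (h : Dk K) (hd : 8 ∣ (Subgroup.center K).index) :
    4 * Nat.card (Subgroup.center K) ≤ Nat.card (Subgroup.center K) + 2 * cnt K 2 := by
  classical
  obtain ⟨P, hP⟩ := Sylow.exists_subgroup_card_pow_prime (G := K ⧸ Subgroup.center K) 2 (n := 3) hd
  have hPp : IsPGroup 2 P := IsPGroup.of_card hP
  have : Nontrivial P := Finite.one_lt_card_iff_nontrivial.1 (by rw [hP]; norm_num)
  have := hPp.center_nontrivial
  obtain ⟨⟨⟨y, hyP⟩, hy⟩, hy1⟩ := exists_ne (1 : Subgroup.center P)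
  obtain ⟨y, rfl⟩ := QuotientGroup.mk_surjective y
  have hyZ : y ∉ Subgroup.center K := fun h0 =>
    hy1 (Subtype.ext (Subtype.ext ((QuotientGroup.eq_one_iff y).2 h0)))
  obtain ⟨y', hy'⟩ := h.two y hyZ
  let P' := P.comap (QuotientGroup.mk' (Subgroup.center K))
  have := Fintype.ofFinite P'
  have h1 : (Subgroup.centralizer ({(⟨y, hyP⟩ : P')} : Set P')).index ≤ 2 := by
    rw [← card_filter_isConj]
    refine (Finset.card_le_card_of_injOn Subtype.val (fun a ha => ?_)
      Subtype.val_injective.injOn).trans (Finset.card_le_two (a := y) (b := y'))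
    simp only [Finset.coe_filter, Finset.mem_univ, true_and, Set.mem_setOf_eq] at ha
    obtain ⟨c, rfl⟩ := isConj_iff.1 ha
    have h2 : ((y : K ⧸ Subgroup.center K)) =
        ((c.1 * y * c.1⁻¹ : K) : K ⧸ Subgroup.center K) := by
      have h3 := congrArg Subtype.val (Subgroup.mem_center_iff.1 hy ⟨_, c.2⟩)
      rw [QuotientGroup.mk_mul, QuotientGroup.mk_mul, QuotientGroup.mk_inv, eq_mul_inv_iff_mul_eq]
      exact h3.symm
    have h3 := QuotientGroup.eq.1 h2
    simpa using hy' (c.1 * y * c.1⁻¹) (isConj_iff.2 ⟨c, rfl⟩) (by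
      rw [show c.1 * y * c.1⁻¹ = y * (y⁻¹ * (c.1 * y * c.1⁻¹)) by group]
      exact (Commute.refl y).mul_right (Subgroup.mem_center_iff.1 h3 y))
  have h2 := h.card_le (D := (Subgroup.centralizer ({(⟨y, hyP⟩ : P')} : Set P')).map P'.subtype)
    (by
      rintro _ ⟨a, ha, rfl⟩ _ ⟨b, hb, rfl⟩
      exact h.ca y hyZ _ _
        (congrArg Subtype.val (Subgroup.mem_centralizer_singleton_iff.1 ha)).symm
        (congrArg Subtype.val (Subgroup.mem_centralizer_singleton_iff.1 hb)).symm)
    {c | typ c = 2} (by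
      rintro _ ⟨a, -, rfl⟩ haZ
      obtain ⟨k, hk⟩ := IsPGroup.iff_orderOf.1 hPp ⟨_, a.2⟩
      rw [← Subgroup.orderOf_coe] at hk
      rw [Set.mem_setOf_eq, typ_mk, show orderOf (QuotientGroup.mk (P'.subtype a) :
        K ⧸ Subgroup.center K) = 2 ^ k from hk, Nat.Prime.pow_minFac Nat.prime_two]
      rintro rfl
      exact haZ ((QuotientGroup.eq_one_iff _).1 (orderOf_eq_one_iff.1 hk)))
  rw [card_map_subtype] at h2
  have h3 := (Subgroup.centralizer ({(⟨y, hyP⟩ : P')} : Set P')).index_mul_card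
  have h4 : Nat.card P' = _ := card_comap_mk _ P
  rw [hP] at h4
  have h5 := Nat.mul_le_mul_right
    (Nat.card (Subgroup.centralizer ({(⟨y, hyP⟩ : P')} : Set P'))) h1
  unfold cnt
  omega

theorem isSolvable_of_dvd_sixty {M : Type u} [Group M] [Finite M] (h : Nat.card M ∣ 60)
    (h1 : Nat.card M ≠ 60) : Group.IsSolvable M := by
  by_cases h30 : Nat.card M = 30
  · have := IsZGroup.of_squarefree (G := M) (by rw [h30]; decide +kernel)
    infer_instance
  have h2 : ∀ m ∈ Nat.divisors 60, m ≠ 60 → m ≠ 30 → (∃ a < 3, ∃ b < 2, m = 2 ^ a * 3 ^ b) ∨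
      (∃ a < 3, ∃ b < 2, m = 2 ^ a * 5 ^ b) ∨ m = 3 ^ 1 * 5 ^ 1 := by decide +kernel
  rcases h2 _ (Nat.mem_divisors.2 ⟨h, by norm_num⟩) h1 h30 with ⟨a, -, b, -, h⟩ | ⟨a, -, b, -, h⟩ | h
  · exact isSolvable_of_card_eq_pow_mul_pow (by norm_num) (by norm_num) h
  · exact isSolvable_of_card_eq_pow_mul_pow (by norm_num) (by norm_num) h
  · exact isSolvable_of_card_eq_pow_mul_pow (by norm_num) (by norm_num) h

theorem Dk.isSimpleGroup (h : Dk K) (hZ : Nat.card (Subgroup.center K) = 2)
    (hi : (Subgroup.center K).index = 60) (hk : Nat.card (ConjClasses K) ≤ 10) :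
    IsSimpleGroup (K ⧸ Subgroup.center K) := by
  classical
  have hQ : Nat.card (K ⧸ Subgroup.center K) = 60 := hi
  have : Nontrivial (K ⧸ Subgroup.center K) := Finite.one_lt_card_iff_nontrivial.1 (by omega)
  refine ⟨fun N hN => ?_⟩
  by_contra hcon
  push Not at hcon
  obtain ⟨M, hM, hMN⟩ := exists_isMinNormal_le hN hcon.1
  obtain ⟨r, hr, hE⟩ := hM.exists_isElementaryAbelian (isSolvable_of_le hMN
    (isSolvable_of_dvd_sixty (hQ ▸ N.card_subgroup_dvd_card)
      (hQ ▸ (card_lt_of_ne_top hcon.2).ne)))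
  have := Fact.mk hr
  obtain ⟨a, ha⟩ := hE.isPGroup.exists_card_eq
  have h5 : Nat.card M ≤ 5 := by
    have h1 : ∀ m ∈ Nat.divisors 60, m ≤ 5 ∨ (2 ∣ m ∧ 3 ∣ m) ∨ (2 ∣ m ∧ 5 ∣ m) ∨ (3 ∣ m ∧ 5 ∣ m) := by
      decide +kernel
    have h2 : ∀ s : ℕ, s.Prime → s ∣ Nat.card M → s = r := fun s hs hd =>
      (Nat.prime_dvd_prime_iff_eq hs hr).1 (hs.dvd_of_dvd_pow (ha ▸ hd))
    rcases h1 _ (Nat.mem_divisors.2 ⟨hQ ▸ M.card_subgroup_dvd_card, by norm_num⟩) with
      h | ⟨a, b⟩ | ⟨a, b⟩ | ⟨a, b⟩
    · exact h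
    all_goals
      have := h2 _ (by norm_num) a
      have := h2 _ (by norm_num) b
      omega
  obtain ⟨⟨x, hx⟩, hx1⟩ := (Subgroup.ne_bot_iff_exists_ne_one).1 hM.2.1
  obtain ⟨x, rfl⟩ := QuotientGroup.mk_surjective x
  have hxZ : x ∉ Subgroup.center K := fun h0 =>
    hx1 (Subtype.ext ((QuotientGroup.eq_one_iff x).2 h0))
  have h1 := h.card_le (D := Subgroup.centralizer {x}) (fun a ha b hb => h.ca x hxZ a b
    (Subgroup.mem_centralizer_singleton_iff.1 ha).symm
    (Subgroup.mem_centralizer_singleton_iff.1 hb).symm) {c | typ c = 1}ᶜ fun a _ haZ h0 => by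
      rw [Set.mem_setOf_eq, typ_mk, Nat.minFac_eq_one_iff, orderOf_eq_one_iff] at h0
      exact haZ ((QuotientGroup.eq_one_iff a).1 h0)
  have h2 := card_center_le_cnt (K := K)
  rw [Set.ncard_compl] at h1
  have := Fintype.ofFinite K
  have h3 : (Subgroup.centralizer ({x} : Set K)).index + 1 ≤
      Nat.card (M.comap (QuotientGroup.mk' (Subgroup.center K))) := by
    rw [← card_filter_isConj, Nat.card_eq_fintype_card, Fintype.card_subtype]
    refine Finset.card_lt_card ⟨fun y hy => ?_, fun h0 => ?_⟩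
    · obtain ⟨c, rfl⟩ := isConj_iff.1 (Finset.mem_filter.1 hy).2
      exact Finset.mem_filter.2 ⟨Finset.mem_univ _, hM.1.conj_mem _ hx (c : K ⧸ _)⟩
    · have h4 := (Finset.mem_filter.1 (h0 (Finset.mem_filter.2
        ⟨Finset.mem_univ 1, Subgroup.one_mem _⟩))).2
      exact hxZ (isConj_one_left.1 h4 ▸ Subgroup.one_mem _)
  rw [card_comap_mk, hZ] at h3
  have h4 := (Subgroup.centralizer ({x} : Set K)).index_mul_card
  have h6 := (Subgroup.center K).index_mul_card
  have h7 := Subgroup.card_dvd_of_le (Subgroup.center_le_centralizer ({x} : Set K))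
  unfold cnt at h2
  rw [hZ] at h1 h2 h7
  rw [hi, hZ] at h6
  rw [← h6] at h4
  generalize (Subgroup.centralizer ({x} : Set K)).index = i at *
  generalize Nat.card (Subgroup.centralizer ({x} : Set K)) = c at *
  have h8 : i ≤ 9 := by omega
  have h9 : c ≤ 18 := by omega
  interval_cases i <;> omega

end Dk

section Main

variable {p : ℕ} [hp : Fact p.Prime] {W : Type v} [AddCommGroup W] [Module (ZMod p) W] [Finite W]
  {H : Type u} [Group H] [Finite H] {ρ : Representation (ZMod p) H W}

theorem Tr.free (T : Tr ρ) (h : Nat.card H = p ^ finrank (ZMod p) W - 1) {g : H} {v : W}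
    (hv : v ≠ 0) (hg : ρ g v = v) : g = 1 := by
  have h1 := (stab ρ v).index_mul_card
  rw [T.index_stab hv, ← h] at h1
  have h2 : stab ρ v = ⊥ := Subgroup.card_eq_one.1 (by
    have := Nat.card_pos (α := H)
    nlinarith [Nat.card_pos (α := stab ρ v)])
  exact Subgroup.mem_bot.1 (h2 ▸ (show g ∈ stab ρ v from hg))

theorem Tr.mem_center (T : Tr ρ) (h : Nat.card H = p ^ finrank (ZMod p) W - 1) {t : H}
    (ht : orderOf t = 2) : t ∈ Subgroup.center H := by
  have h1 : ∀ v, ρ t v = -v := fun v => by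
    by_contra h2
    refine absurd (T.free h (g := t) (v := ρ t v + v) (fun h3 => h2 (eq_neg_of_add_eq_zero_left h3))
      ?_) fun h3 => by rw [h3, orderOf_one] at ht; omega
    rw [map_add, ← Module.End.mul_apply, ← map_mul, ← sq, ← ht, pow_orderOf_eq_one, map_one,
      add_comm, Module.End.one_apply]
  rw [Subgroup.mem_center_iff]
  intro g
  refine T.inj (LinearMap.ext fun v => ?_)
  rw [map_mul, map_mul, Module.End.mul_apply, Module.End.mul_apply, h1, h1, map_neg]

theorem Tr.two_dvd_center (T : Tr ρ) (h : Nat.card H = p ^ finrank (ZMod p) W - 1)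
    (h2 : 2 ∣ Nat.card H) : 2 ∣ Nat.card (Subgroup.center H) := by
  obtain ⟨t, ht⟩ := exists_prime_orderOf_dvd_card' 2 h2
  exact ht ▸ Subgroup.orderOf_dvd_natCard _ (T.mem_center h ht)

theorem Tr.sl25 (T : Tr ρ) (hD : Dk H) (h : Nat.card H = p ^ finrank (ZMod p) W - 1)
    (hZ : Nat.card (Subgroup.center H) = 2) (hi : (Subgroup.center H).index = 60)
    (hk : Nat.card (ConjClasses H) ≤ 10) :
    Nonempty (H ≃* Matrix.SpecialLinearGroup (Fin 2) (ZMod 5)) := by
  have := hD.isSimpleGroup hZ hi hk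
  have hQ : Nat.card (H ⧸ Subgroup.center H) = 60 := hi
  have h1 : commutator (H ⧸ Subgroup.center H) = ⊤ := by
    refine (inferInstance : (commutator (H ⧸ Subgroup.center H)).Normal).eq_bot_or_eq_top.resolve_left
      fun h0 => ?_
    have h2 := (commutator_eq_bot_iff_center_eq_top _).1 h0
    let _ : CommGroup (H ⧸ Subgroup.center H) := Group.commGroupOfCenterEqTop h2
    have h3 := IsSimpleGroup.prime_card (α := H ⧸ Subgroup.center H)
    rw [hQ] at h3
    norm_num at h3
  obtain ⟨e⟩ := psl25_of_simple_card_sixty h1 hQ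
  obtain ⟨z, hz1, hz⟩ := (Nat.card_eq_two_iff' (1 : Subgroup.center H)).1 hZ
  have hz' : ∀ x, x ∈ Subgroup.center H ↔ x = 1 ∨ x = z := fun x =>
    ⟨fun hx => or_iff_not_imp_left.2 fun h1 =>
      congrArg Subtype.val (hz ⟨x, hx⟩ fun h2 => h1 (congrArg Subtype.val h2)),
      fun hx => hx.elim (fun e => e ▸ Subgroup.one_mem _) fun e => e ▸ z.2⟩
  have h2 : commutator H ⊔ Subgroup.center H = ⊤ := by
    rw [← map_mk_eq_top_iff, commutator_def, Subgroup.map_commutator,
      Subgroup.map_top_of_surjective _ (QuotientGroup.mk'_surjective _), ← commutator_def, h1]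
  have h3 : Subgroup.center H ≤ commutator H := by
    have h4 : 2 ∣ Nat.card (commutator H) := by
      have h5 := card_map_mk (Subgroup.center H) (commutator H)
      rw [map_mk_eq_top_iff.2 h2, Subgroup.card_top, hQ] at h5
      refine Dvd.dvd.trans (by norm_num : 2 ∣ 60) ?_
      rw [h5]
      exact Subgroup.relIndex_dvd_card _ _
    obtain ⟨t, ht, ht2⟩ := exists_orderOf_eq_prime_of_dvd_card h4
    intro x hx
    rcases (hz' x).1 hx with rfl | rfl
    · exact Subgroup.one_mem _
    rcases (hz' t).1 (T.mem_center h ht2) with rfl | rfl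
    · rw [orderOf_one] at ht2; omega
    · exact ht
  refine sl25_of_double_cover (by rw [← h2, sup_eq_left.2 h3])
    (e.toMonoidHom.comp (QuotientGroup.mk' _))
    (e.surjective.comp (QuotientGroup.mk'_surjective _))
    (by rw [← Nat.card_congr e.toEquiv, hQ]; norm_num) (z := z)
    (fun h => hz1 (Subtype.ext h)) fun x => ?_
  rw [← hz', ← QuotientGroup.eq_one_iff]
  exact e.map_eq_one_iff

theorem Tr.of_two (T : Tr ρ) (hp5 : 5 ≤ p) (hn : finrank (ZMod p) W = 2) :
    p ≤ Nat.card (ConjClasses H) ∨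
      (p = 11 ∧ Nonempty (H ≃* Matrix.SpecialLinearGroup (Fin 2) (ZMod 5))) := by
  classical
  rw [or_iff_not_imp_left]
  intro hk
  let b := Module.finBasisOfFinrankEq (ZMod p) W hn
  let X : H →* Matrix (Fin 2) (Fin 2) (ZMod p) :=
    (LinearMap.toMatrixAlgEquiv b).toMonoidHom.comp ρ
  have hX : Function.Injective X := (LinearMap.toMatrixAlgEquiv b).injective.comp T.inj
  have h2 : (2 : ZMod p) ≠ 0 := fun h => by
    have := Nat.le_of_dvd two_pos ((ZMod.natCast_eq_zero_iff 2 p).1 h)
    omega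
  have hK : (Nat.card H : ZMod p) ≠ 0 := fun h => T.cop ((ZMod.natCast_eq_zero_iff _ p).1 h)
  have hD := Dk.of_mat X hX h2 hK
  have hd := T.dvd_card
  have hfree := T.two_dvd_center
  have hsl := T.sl25 hD
  rw [hn] at hd hfree hsl
  have hle := Nat.le_of_dvd Nat.card_pos hd
  have hsum := sum_cnt_le (K := H)
  have h1 := card_center_le_cnt (K := H)
  have hZ := (Subgroup.center H).index_mul_card
  have hcop := T.cop
  have hpos := Nat.card_pos (α := Subgroup.center H)
  have hsq : 5 * p ≤ p ^ 2 := by nlinarith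
  rcases dickson_mat2 X hX h2 hK with ⟨A, hA, hi⟩ | hi | hi | hi
  · have := Fintype.ofFinite H
    have h3 := card_le_mul_classes (Finset.univ.filter fun a => a ∈ A) (n := 2) fun x => by
      rcases ((Finset.univ.filter fun a => a ∈ A).filter
        fun y => IsConj x y).eq_empty_or_nonempty with h0 | ⟨a, ha⟩
      · rw [h0]; simp
      simp only [Finset.mem_filter, Finset.mem_univ, true_and] at ha
      have h4 : (Subgroup.centralizer ({a} : Set H)).index ≤ A.index :=
        Nat.le_of_dvd (Nat.pos_of_ne_zero A.index_ne_zero_of_finite) (Subgroup.index_dvd_of_le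
          fun y hy => Subgroup.mem_centralizer_singleton_iff.2 (hA y hy a ha.1))
      rw [← card_filter_isConj] at h4
      refine le_trans (Finset.card_le_card fun y hy => ?_) (h4.trans hi)
      simp only [Finset.mem_filter, Finset.mem_univ, true_and] at hy ⊢
      exact ha.2.symm.trans hy.2
    rw [← Fintype.card_subtype, ← Nat.card_eq_fintype_card] at h3
    have h4 := A.index_mul_card
    have h5 := Nat.mul_le_mul_right (Nat.card A) hi
    omega
  · have h3 := hD.prime_le_cnt Nat.prime_two (by rw [hi]; norm_num)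
    have h4 := hD.prime_le_cnt Nat.prime_three (by rw [hi]; norm_num)
    rw [hi] at hZ
    exfalso
    rcases (by omega : p = 5 ∨ 6 ≤ p) with rfl | h6
    · omega
    · have : 6 * p ≤ p ^ 2 := by nlinarith
      omega
  · have h3 := hD.four_le_cnt (by rw [hi]; norm_num)
    have h4 := hD.prime_le_cnt Nat.prime_three (by rw [hi]; norm_num)
    rw [hi] at hZ
    exfalso
    rcases (by omega : p = 5 ∨ p = 6 ∨ p = 7 ∨ 8 ≤ p) with rfl | rfl | rfl | h6
    · omega
    · exact absurd hp.out (by norm_num)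
    · omega
    · have : 8 * p ≤ p ^ 2 := by nlinarith
      omega
  · have h3 := hD.prime_le_cnt Nat.prime_two (by rw [hi]; norm_num)
    have h4 := hD.prime_le_cnt Nat.prime_three (by rw [hi]; norm_num)
    have h5 := hD.prime_le_cnt Nat.prime_five (by rw [hi]; norm_num)
    rw [hi] at hZ
    by_cases h14 : 14 ≤ p
    · have : 14 * p ≤ p ^ 2 := by nlinarith
      omega
    obtain rfl : p = 11 := by
      have h6 : p < 14 := by omega
      interval_cases p <;> omega
    exact ⟨rfl, hsl (by omega) (by omega) hi (by omega)⟩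

theorem Tr.main (T : Tr ρ) : p ≤ Nat.card (ConjClasses H) ∨ finrank (ZMod p) W = 1 ∨
    (p = 11 ∧ finrank (ZMod p) W = 2 ∧
      Nonempty (H ≃* Matrix.SpecialLinearGroup (Fin 2) (ZMod 5))) := by
  have := T.nt
  have h0 : 0 < finrank (ZMod p) W := finrank_pos
  by_cases h1 : finrank (ZMod p) W = 1
  · exact Or.inr (Or.inl h1)
  by_cases hp5 : 5 ≤ p
  · by_cases h2 : finrank (ZMod p) W = 2
    · exact (T.of_two hp5 h2).imp id fun h => Or.inr ⟨h.1, h2, h.2⟩
    · exact Or.inl (T.le_classes_of_three hp5 (by omega))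
  left
  by_contra hk
  have hle := Nat.le_of_dvd Nat.card_pos T.dvd_card
  have h2 := Nat.pow_le_pow_right hp.out.pos (show 2 ≤ finrank (ZMod p) W by omega)
  have h3 := hp.out.two_le
  have h4 := card_le_two_of_classes (H := H)
  have h5 := card_le_one_of_classes (H := H)
  have hpp := hp.out
  have h6 : p < 5 := by omega
  generalize p ^ finrank (ZMod p) W = q at *
  interval_cases p <;> first | omega | exact absurd hpp (by norm_num)

end Main

end Cfsg.Pass
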